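import Cfsg.Agent.H729.MData
import Cfsg.Agent.H729.TransFast
import Cfsg.Agent.H865.Three
import Cfsg.Agent.H860.Two24
import Cfsg.Agent.H729.PairMathieu
import Cfsg.Agent.H865.ThreeClasses
import Cfsg.Agent.Lib.Cores
import Cfsg.Agent.H509.WeakBlock_m3
import Cfsg.Agent.KFacts.M24Two.Out
import Cfsg.Agent.S1643
import Cfsg.Agent.Lib.ListFast
import Cfsg.Agent.H478.RadTools_m3
import Cfsg.Agent.Lib.CoprimeHyperplane
import Cfsg.Agent.CpAutRuFive.Main
import Cfsg.Agent.H451.Weak.MBase_m3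
import Cfsg.Agent.CpAutMSeven.Hex
import Cfsg.Agent.CpAutMSeven.ZeroComps
import Cfsg.Agent.H52.FourTool
import Cfsg.Agent.H326.Four.RowSuz_m3
import Cfsg.Agent.H296.Fr.RowRu
import Cfsg.Agent.H51.Rad3.Ru
import Cfsg.Agent.H805.NilRu
import Cfsg.Agent.H58.Cop.Full
import Cfsg.Agent.KFacts.Ru.Fast
import Cfsg.Agent.J2Type.CentQuot
import Cfsg.Agent.J2Type.FourSelfCent
import Cfsg.Agent.H654.FourRows
import Cfsg.Agent.H109.NrCo
import Cfsg.Agent.H513.NilpHN
import Cfsg.Agent.S0200
import Cfsg.Agent.OddHalf.D6.Cut_m3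
import Cfsg.Agent.H383.W2.M22Fact
import Mathlib.GroupTheory.OrderOfElement
import Mathlib.Tactic.Group
import Mathlib.Tactic.NormNum
import Cfsg.Agent.H516.OddFrame
import Cfsg.Agent.H755.CC.Fi24
import Cfsg.Agent.OddHalf.D4.Spor.FiTF_m3
import Cfsg.Agent.H819.CubeFi24
import Cfsg.Agent.FastGrp
import Cfsg.Agent.Prune
set_option linter.all false

section
prune_inst 0x7f00000000000000000000000000000000000000000000000000000000000000000000000000000000000000000000000000000000000000000000000000000000000000000000000000000000000000003fffffffffffffffffffffffffffbeffbdffffffff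

-- part: H35/M24Two/Data
section
set_option linter.all false

/-!
# Centralizers in `M24`: data (helper35)

Data for the kernel searches of `H729.Trans`: elements of type 4B, 4C, 8A, of order 15 and 21, and the elements of type 3A
with four fixed points.
-/

set_option autoImplicit false
set_option Elab.async false

namespace Cfsg.Agent.H35.M24Two

open Cfsg.Agent.H729.Trans Cfsg.Agent.H729.MData
open Cfsg.Agent.SporadicStructure.M24El Cfsg.Agent.SporadicA.GolayPerm

/-- `4B` -/
def c4B : ℕ := 96310212413581064753222024698479671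

def b4B : ℕ := 10

def wd4B : List (ℕ × ℕ) := [(5, 2), (6, 0), (5, 0), (8, 1), (4, 0), (7, 0), (1, 1), (3, 0), (1, 3), (2, 3), (0, 0), (2, 2), (0, 2), (1, 2), (8, 0), (0, 1), (2, 0), (5, 1), (9, 0), (2, 1), (3, 1), (1, 0), (0, 3), (5, 3)]

def st4B : List (ℕ × List ℕ × List (List (ℕ × ℕ))) := [(10, [10], []),
  (21, List.range 24, [[(1, 1), (1, 3), (0, 0), (0, 2), (1, 2), (0, 1), (1, 0), (0, 3)]]),
  (16, List.range 24, [[(1, 1), (1, 3), (2, 3), (2, 2), (0, 1), (2, 0), (2, 1), (0, 3)]]),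
  (7, List.range 24, [[(1, 1), (3, 0), (2, 3), (0, 0), (0, 1), (2, 1), (3, 1), (1, 0)]]),
  (4, List.range 24, [[(4, 0), (1, 1), (3, 0), (1, 2), (2, 0), (2, 1), (1, 0), (0, 3)]]),
  (2, List.range 24, [[(5, 2), (4, 0), (1, 1), (1, 2), (0, 1), (3, 1), (1, 0), (5, 3)], [(5, 0), (4, 0), (1, 3), (1, 2), (5, 1), (3, 1), (1, 0), (0, 3)], [(5, 2), (5, 0), (2, 3), (1, 2), (0, 1), (2, 1), (1, 0), (0, 3)]]),
  (1, List.range 24, [[(5, 2), (6, 0), (5, 0), (4, 0), (1, 2), (2, 0), (0, 3), (5, 3)]]),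
  (5, List.range 24, [[(6, 0), (5, 0), (7, 0), (1, 2), (2, 0), (5, 1), (2, 1), (1, 0)]]),
  (14, List.range 24, [[(5, 2), (5, 0), (1, 2), (8, 0), (0, 1), (2, 0), (5, 1), (3, 1)], [(5, 2), (8, 1), (1, 2), (8, 0), (2, 0), (2, 1), (1, 0), (5, 3)]]),
  (18, List.range 24, [[(5, 2), (6, 0), (1, 2), (0, 1), (5, 1), (9, 0), (2, 1), (5, 3)]])]

/-- `4C` -/
def c4C : ℕ := 810336946202725104749676362684052599

def b4C : ℕ := 10

def wd4C : List (ℕ × ℕ) := [(4, 3), (5, 3), (3, 1), (5, 0), (4, 2), (2, 3), (0, 2), (1, 1), (3, 0), (2, 2), (0, 0), (5, 2), (2, 1), (3, 2), (1, 0), (0, 3), (1, 3), (0, 1), (2, 0), (4, 1), (5, 1), (3, 3), (1, 2), (4, 0)]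

def st4C : List (ℕ × List ℕ × List (List (ℕ × ℕ))) := [(10, [10], []),
  (14, List.range 24, [[(0, 2), (1, 1), (0, 0), (1, 0), (0, 3), (1, 3), (0, 1), (1, 2)]]),
  (18, List.range 24, []),
  (8, List.range 24, [[(3, 1), (0, 2), (1, 1), (3, 2), (0, 3), (0, 1), (2, 0), (3, 3)], [(2, 3), (0, 2), (3, 0), (1, 3), (0, 1), (2, 0), (3, 3), (1, 2)], [(2, 3), (0, 2), (2, 2), (3, 2), (1, 0), (0, 3), (1, 3), (3, 3)]]),
  (23, List.range 24, [[(3, 1), (4, 2), (0, 3), (1, 3), (0, 1), (2, 0), (4, 1), (1, 2)], [(4, 3), (3, 1), (2, 3), (0, 3), (1, 3), (2, 0), (3, 3), (4, 0)], [(0, 2), (1, 0), (0, 3), (2, 0), (4, 1), (3, 3), (1, 2), (4, 0)]]),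
  (3, List.range 24, [[(4, 3), (5, 3), (3, 2), (0, 3), (0, 1), (2, 0), (4, 1), (4, 0)], [(4, 3), (3, 1), (3, 2), (1, 0), (0, 3), (1, 3), (0, 1), (5, 1)], [(4, 3), (5, 0), (3, 2), (1, 0), (1, 3), (4, 1), (3, 3), (4, 0)]])]

/-- `8A` -/
def c8A : ℕ := 353784152154062902200513407373431981

def b8A : ℕ := 19

def wd8A : List (ℕ × ℕ) := [(1, 2), (4, 1), (1, 6), (2, 3), (5, 0), (4, 0), (1, 1), (2, 2), (1, 5), (0, 4), (0, 7), (0, 2), (0, 3), (1, 3), (2, 1), (0, 1), (0, 6), (1, 0), (3, 0), (0, 0), (2, 0), (1, 7), (0, 5), (1, 4)]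

def st8A : List (ℕ × List ℕ × List (List (ℕ × ℕ))) := [(19, [19], []),
  (17, List.range 24, [[(1, 2), (1, 6), (1, 1), (1, 5), (0, 1), (1, 0), (0, 5), (1, 4)], [(1, 2), (1, 6), (0, 4), (1, 3), (0, 1), (0, 0), (1, 7), (0, 5)], [(1, 6), (1, 1), (0, 7), (1, 3), (0, 1), (0, 6), (0, 0), (1, 4)]]),
  (20, List.range 24, [[(1, 2), (1, 6), (1, 3), (2, 1), (0, 1), (0, 6), (1, 0), (2, 0)], [(1, 2), (2, 3), (1, 3), (2, 1), (0, 6), (0, 0), (1, 7), (1, 4)], [(1, 2), (2, 2), (0, 1), (0, 6), (0, 0), (2, 0), (0, 5), (1, 4)]]),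
  (18, List.range 24, [[(1, 1), (2, 1), (0, 1), (3, 0), (0, 0), (1, 7), (0, 5), (1, 4)]]),
  (5, List.range 24, [[(1, 2), (4, 1), (1, 3), (0, 1), (1, 0), (3, 0), (0, 0), (1, 4)], [(4, 0), (1, 3), (2, 1), (1, 0), (3, 0), (2, 0), (1, 7), (1, 4)]]),
  (4, List.range 24, [[(1, 2), (5, 0), (1, 3), (2, 1), (3, 0), (0, 0), (2, 0), (0, 5)]])]

def c15 : ℕ := 790129692085304596803062192714059496

def wd15 : List (ℕ × ℕ) := [(1, 3), (2, 2), (3, 0), (3, 1), (1, 12), (1, 5), (1, 11), (1, 7), (1, 4), (3, 2), (1, 14), (1, 0), (2, 1), (2, 0), (1, 9), (1, 8), (1, 6), (1, 13), (0, 0), (2, 4), (1, 10), (1, 1), (1, 2), (2, 3)]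

def st15 : List (ℕ × List ℕ × List (List (ℕ × ℕ))) := [(18, List.range 24, []),
  (11, List.range 24, [[(1, 3), (1, 12), (1, 5), (1, 11), (1, 9), (1, 8), (1, 13), (0, 0)], [(1, 12), (1, 5), (1, 7), (1, 8), (1, 6), (1, 13), (1, 10), (1, 1)]]),
  (13, List.range 24, [[(1, 3), (2, 2), (2, 0), (1, 8), (1, 13), (0, 0), (2, 4), (2, 3)], [(1, 3), (1, 12), (2, 0), (1, 9), (0, 0), (2, 4), (1, 10), (1, 2)]]),
  (2, List.range 24, [[(1, 3), (3, 0), (2, 0), (1, 9), (1, 8), (1, 6), (1, 13), (1, 10)], [(1, 3), (3, 1), (2, 0), (1, 9), (1, 6), (2, 4), (1, 1), (2, 3)]])]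

def c21 : ℕ := 22378450299057375559147361312380641

def wd21 : List (ℕ × ℕ) := [(0, 0), (0, 1), (1, 16), (1, 1), (1, 0), (1, 17), (1, 4), (1, 20), (1, 5), (1, 11), (1, 10), (1, 8), (1, 9), (1, 12), (1, 13), (1, 7), (1, 15), (1, 3), (1, 14), (1, 6), (1, 18), (1, 19), (1, 2), (0, 2)]

def st21 : List (ℕ × List ℕ × List (List (ℕ × ℕ))) := [(0, List.range 24, []),
  (4, List.range 24, [[(0, 0), (0, 1), (1, 12), (1, 7), (1, 3), (1, 14), (1, 6), (0, 2)], [(0, 0), (1, 16), (1, 12), (1, 13), (1, 7), (1, 15), (1, 3), (1, 18)]])]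

/-- four fixed points of `A` -/
def f4 : List ℕ := [23, 18, 12, 19]

def wdA : List (ℕ × ℕ) := [(6, 0), (11, 0), (5, 2), (5, 0), (10, 1), (4, 2), (7, 2), (10, 2), (8, 1), (5, 1), (8, 2), (4, 0), (2, 0), (9, 0), (8, 0), (6, 2), (7, 0), (6, 1), (1, 0), (3, 0), (4, 1), (7, 1), (10, 0), (0, 0)]

def stA : List (ℕ × List ℕ × List (List (ℕ × ℕ))) := [(23, [23], []),
  (18, [18], []),
  (12, [12], []),
  (19, [19], []),
  (11, List.range 24, []),
  (3, List.range 24, [[(5, 2), (5, 0), (4, 2), (5, 1), (4, 0), (1, 0), (4, 1), (0, 0)]]),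
  (0, List.range 24, [[(6, 0), (5, 2), (5, 0), (5, 1), (2, 0), (6, 2), (6, 1), (1, 0)]]),
  (16, List.range 24, [[(5, 2), (5, 0), (6, 2), (6, 1), (3, 0), (4, 1), (7, 1), (0, 0)], [(6, 0), (5, 2), (4, 2), (6, 2), (7, 0), (1, 0), (7, 1), (0, 0)], [(7, 2), (5, 1), (6, 2), (7, 0), (6, 1), (1, 0), (4, 1), (0, 0)]]),
  (14, List.range 24, [[(6, 0), (5, 2), (8, 1), (8, 0), (6, 1), (1, 0), (3, 0), (7, 1)], [(6, 0), (7, 2), (8, 2), (8, 0), (6, 1), (3, 0), (4, 1), (0, 0)]]),
  (13, List.range 24, [[(6, 0), (5, 2), (9, 0), (8, 0), (6, 2), (7, 0), (6, 1), (4, 1)]]),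
  (22, List.range 24, [[(6, 0), (10, 1), (9, 0), (8, 0), (1, 0), (3, 0), (4, 1), (10, 0)], [(7, 2), (8, 0), (6, 2), (1, 0), (3, 0), (7, 1), (10, 0), (0, 0)], [(6, 0), (10, 2), (6, 2), (7, 0), (3, 0), (4, 1), (10, 0), (0, 0)]]),
  (1, List.range 24, [[(6, 0), (11, 0), (9, 0), (6, 2), (6, 1), (1, 0), (3, 0), (0, 0)]])]

/-- of order 5, commutes with `A` -/
def z5 : ℕ := 809011347694544302585500633340676846

/-- of order 7, commutes with `c3` -/
def z7 : ℕ := 962457552832298894041479616745515040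

def t1 : ℕ := 716638546562224766199225499769853098

def t2 : ℕ := 845481285522294293922203519358668070

def gB : ℕ := 431293203890022389210941043537019401

/-- elements of order 3 commuting with the involutions and with 4A -/
def y1 : ℕ := 521384194609701815420203968552376904

def y2 : ℕ := 605328644106687768454818119562081003

def y3 : ℕ := 961440173591516095842784107582571561

/-- a group of order 9 commuting with `c3` -/
def l9 : List ℕ := [15909574972934138282974354882288353, 44673570877212604306017735907225623,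
  194859099978126088992212405072497231, 294066496778693743717192061303566803, 597325191556486546106087559263443559,
  639106356860279406557576886082525330, 750947399282518330768201867326960100, 818217916752282422792396010317056238,
  984818244535754528103549039458486304]

theorem pre4B : pre 4 c4B wd4B st4B = true := by decide +kernel
theorem len4B : (tl 4 c4B c4B wd4B st4B).length = 8 := by
  rewrite [Cfsg.Agent.GolayF.tl_eq]; decide +kernel

theorem pre4C : pre 4 c4C wd4C st4C = true := by decide +kernel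
theorem len4C : (tl 4 c4C c4C wd4C st4C).length = 4 := by
  rewrite [Cfsg.Agent.GolayF.tl_eq]; decide +kernel

theorem pre8A : pre 8 c8A wd8A st8A = true := by decide +kernel
theorem len8A : (tl 8 c8A c8A wd8A st8A).length = 1 := by
  rewrite [Cfsg.Agent.GolayF.tl_eq]; decide +kernel

theorem pre15 : pre 15 c15 wd15 st15 = true := by decide +kernel
theorem all15 : ((tl 15 c15 c15 wd15 st15).all fun P => Nat.beq (ppow P 15) idP) = true := by
  rewrite [Cfsg.Agent.GolayF.tl_eq]; decide +kernel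

theorem pre21 : pre 21 c21 wd21 st21 = true := by decide +kernel
theorem all21 : ((tl 21 c21 c21 wd21 st21).all fun P => Nat.beq (ppow P 21) idP) = true := by
  rewrite [Cfsg.Agent.GolayF.tl_eq]; decide +kernel

theorem preA : pre 3 Cfsg.Agent.H865.Three.A wdA stA = true := by decide +kernel
theorem lenA : (tl 3 Cfsg.Agent.H865.Three.A Cfsg.Agent.H865.Three.A wdA stA).length = 3 := by
  rewrite [Cfsg.Agent.GolayF.tl_eq]; decide +kernel

end Cfsg.Agent.H35.M24Two
end

-- part: H35/M24Two/Cent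
section
set_option linter.all false
open scoped Cfsg.Agent.FastGrp

/-!
# Centralizers in `M24` (helper35)

* `card_cent_le_mul` : a bound for centralizers, with a few fixed base points;
* `core_three` : `O_2(C(w)) = 1` for the elements `w` of order 3.
-/

set_option autoImplicit false
set_option linter.unusedSectionVars false

namespace Cfsg.Agent.H35.M24Two

open Cfsg Subgroup
open Cfsg.Agent.SporadicA.GolayBase Cfsg.Agent.SporadicA.GolayPerm
open Cfsg.Agent.SporadicStructure.M24El Cfsg.Agent.H729.Trans Cfsg.Agent.H729.MData Cfsg.Agent.H729.Count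
open Cfsg.Agent.H729.M24Deg

instance fin24 : Finite M24 := Nat.finite_of_card_ne_zero (by rw [card_M24]; norm_num)

theorem im_inv_mul {g h : M24} {b : ℕ} (hb : b < 24) (e : im h b = im g b) : im (g⁻¹ * h) b = b := by
  have h1 : h • pt b = g • pt b := idx_injective e
  have h2 : (g⁻¹ * h) • pt b = pt b := by rw [mul_smul, h1, inv_smul_smul]
  show idx ((g⁻¹ * h) • pt b) = b
  rw [h2, idx_pt hb]

/-- **Bound for a centralizer, with base points.** -/
theorem card_cent_le_mul {p c : ℕ} {wd : List (ℕ × ℕ)} {sts : List (ℕ × List ℕ × List (List (ℕ × ℕ)))}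
    (h : pre p c wd sts = true) (bs : List ℕ) (hbs : ∀ b ∈ bs, b < 24) (T : Finset (List ℕ))
    (hT : ∀ z : M24, z * el c = el c * z → bs.map (im z) ∈ T)
    (hst : ∀ st ∈ sts, st.2.1 = List.range 24 ∨ (st.1 ∈ bs ∧ st.1 ∈ st.2.1)) :
    Nat.card (centralizer ({el c} : Set M24)) ≤ T.card * (tl p c c wd sts).length := by
  classical
  have hc := ok_of_pre h
  have : Fintype (centralizer ({el c} : Set M24)) := Fintype.ofFinite _
  let f : centralizer ({el c} : Set M24) → List ℕ := fun z => bs.map (im (z : M24))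
  have hcomm : ∀ z : centralizer ({el c} : Set M24), (z : M24) * el c = el c * z :=
    fun z => mem_centralizer_singleton_iff.1 z.2
  have h1 : ∀ t ∈ (Finset.univ : Finset (centralizer ({el c} : Set M24))).image f,
      (Finset.univ.filter fun z => f z = t).card ≤ (tl p c c wd sts).length := by
    intro t ht
    obtain ⟨z0, -, rfl⟩ := Finset.mem_image.1 ht
    refine le_trans ?_ (List.toFinset_card_le _)
    refine Finset.card_le_card_of_injOn (fun z => packOf (((z0⁻¹ * z : centralizer ({el c} : Set M24)) : M24) : Equiv.Perm GolayPt))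
      ?_ ?_
    · intro z hz
      have hz' : f z = f z0 := (Finset.mem_filter.1 hz).2
      rw [Finset.mem_coe, List.mem_toFinset]
      refine packOf_mem_tl h hc _ (hcomm _) fun st hst' => ?_
      rcases hst st hst' with h2 | ⟨h2, h3⟩
      · rw [h2]
        exact List.mem_range.2 (im_lt _ _)
      · have h4 : im ((z0 : M24)⁻¹ * z) st.1 = st.1 := by
          apply im_inv_mul (hbs _ h2)
          exact (List.map_inj_left.1 hz') _ h2
        have h5 : ((z0⁻¹ * z : centralizer ({el c} : Set M24)) : M24) = (z0 : M24)⁻¹ * z := rfl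
        rw [h5, h4]
        exact h3
    · intro x _ y _ hxy
      have h2 := packOf_inj hxy
      exact mul_left_cancel (Subtype.ext h2)
  have h2 := Finset.card_le_mul_card_image (f := f) Finset.univ _ h1
  rw [Finset.card_univ, ← Nat.card_eq_fintype_card] at h2
  refine h2.trans ?_
  rw [mul_comm]
  refine Nat.mul_le_mul_right _ (Finset.card_le_card ?_)
  intro t ht
  obtain ⟨z, -, rfl⟩ := Finset.mem_image.1 ht
  exact hT z (hcomm z)

theorem card_cent_le_one {p c b : ℕ} {wd : List (ℕ × ℕ)} {sts : List (ℕ × List ℕ × List (List (ℕ × ℕ)))}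
    (h : pre p c wd sts = true) (hb : b < 24)
    (hst : (sts.all fun st => decide (st.2.1 = List.range 24) || (decide (st.1 = b) && decide (st.1 ∈ st.2.1))) = true) :
    Nat.card (centralizer ({el c} : Set M24)) ≤ 24 * (tl p c c wd sts).length := by
  refine (card_cent_le_mul h [b] (fun x hx => ?_) ((Finset.range 24).image fun i => [i]) (fun z _ => ?_)
    (fun st h1 => ?_)).trans (Nat.mul_le_mul_right _ ?_)
  · rw [List.mem_singleton.1 hx]; exact hb
  · rw [Finset.mem_image]
    exact ⟨im z b, Finset.mem_range.2 (im_lt _ _), rfl⟩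
  · have h2 := List.all_eq_true.1 hst st h1
    rw [Bool.or_eq_true, Bool.and_eq_true] at h2
    rcases h2 with h2 | ⟨h2, h3⟩
    · exact Or.inl (of_decide_eq_true h2)
    · exact Or.inr ⟨List.mem_singleton.2 (of_decide_eq_true h2), of_decide_eq_true h3⟩
  · exact Finset.card_image_le.trans (by rw [Finset.card_range])

theorem card_4B : Nat.card (centralizer ({el c4B} : Set M24)) ≤ 192 := by
  have := card_cent_le_one pre4B (b := b4B) (by decide) (by decide +kernel)
  rwa [len4B] at this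

theorem card_4C : Nat.card (centralizer ({el c4C} : Set M24)) ≤ 96 := by
  have := card_cent_le_one pre4C (b := b4C) (by decide) (by decide +kernel)
  rwa [len4C] at this

theorem card_8A : Nat.card (centralizer ({el c8A} : Set M24)) ≤ 24 := by
  have := card_cent_le_one pre8A (b := b8A) (by decide) (by decide +kernel)
  rwa [len8A] at this

/-! ### elements of order 3 -/

/-- the fixed points of `A` -/
def fixA : List ℕ := [1, 12, 13, 18, 19, 23]

/-- the 4-tuples of distinct fixed points of `A` -/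
def tup : List (List ℕ) :=
  (fixA.flatMap fun a => fixA.flatMap fun b => fixA.flatMap fun c => fixA.map fun d => [a, b, c, d]).filter
    fun l => decide l.Nodup

theorem fix_mem {i : ℕ} (hi : i < 24) (h : papp H865.Three.A i = i) : i ∈ fixA := by
  have h1 : ((List.range 24).all fun i => !(Nat.beq (papp H865.Three.A i) i) || decide (i ∈ fixA)) = true := by
    decide +kernel
  have h2 := List.all_eq_true.1 h1 i (List.mem_range.2 hi)
  rw [h, Nat.beq_refl] at h2
  simpa using h2

theorem card_A : Nat.card (centralizer ({el H865.Three.A} : Set M24)) ≤ 1080 := by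
  have hA := H865.Three.okA
  have hf24 : ∀ i ∈ f4, i < 24 := by decide
  have hfA : (f4.all fun i => Nat.beq (papp H865.Three.A i) i) = true := by decide +kernel
  refine (card_cent_le_mul preA f4 hf24 tup.toFinset (fun z hz => ?_) (fun st h1 => ?_)).trans ?_
  · have h1 : ∀ i ∈ f4, im z i ∈ fixA := by
      intro i hi
      apply fix_mem (im_lt _ _)
      have h3 := im_papp hA hA z hz (hf24 i hi)
      rw [← h3, Nat.eq_of_beq_eq_true (List.all_eq_true.1 hfA i hi)]
    rw [List.mem_toFinset, tup, List.mem_filter]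
    constructor
    · simp only [List.mem_flatMap, List.mem_map]
      simp only [f4, List.map_cons, List.map_nil]
      refine ⟨_, h1 _ ?_, _, h1 _ ?_, _, h1 _ ?_, _, h1 _ ?_, rfl⟩ <;> decide
    · apply decide_eq_true
      apply List.Nodup.map_on
      · intro x hx y hy hxy
        exact im_inj z (hf24 x hx) (hf24 y hy) hxy
      · decide
  · have h2 : (stA.all fun st => decide (st.2.1 = List.range 24) || (decide (st.1 ∈ f4) && decide (st.1 ∈ st.2.1))) = true := by
      decide +kernel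
    have h2 := List.all_eq_true.1 h2 st h1
    rw [Bool.or_eq_true, Bool.and_eq_true] at h2
    rcases h2 with h2 | ⟨h2, h3⟩
    · exact Or.inl (of_decide_eq_true h2)
    · exact Or.inr ⟨of_decide_eq_true h2, of_decide_eq_true h3⟩
  · rw [lenA]
    have h3 : tup.toFinset.card ≤ tup.length := List.toFinset_card_le _
    have h4 : tup.length = 360 := by decide +kernel
    omega

/-- a fixed-point-free element of prime order on the 2-core -/
theorem card_core_modEq {G : Type*} [Group G] [Finite G] {w z : G} {q : ℕ} (hq : q.Prime) (hzw : z * w = w * z)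
    (hz : orderOf z = q) {n : ℕ} (hn : Odd n) (h : ∀ g : G, Commute g (z * w) → g ^ n = 1) :
    Nat.card (pCore 2 (centralizer ({w} : Set G))) ≡ 1 [MOD q] := by
  have := Fact.mk hq
  set C := centralizer ({w} : Set G) with hC
  have hzC : z ∈ C := mem_centralizer_singleton_iff.2 hzw
  set R := pCore 2 C with hR
  have hRn : R.Normal := Lib.Cores.pCore_normal 2
  have hR2 : IsPGroup 2 R := Lib.Cores.pCore_isPGroup 2
  set ζ : C := ⟨z, hzC⟩ with hζ
  have hζo : orderOf ζ = q := by rw [← hz, ← Subgroup.orderOf_coe]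
  let _ : MulAction (zpowers ζ) R :=
    MulAction.compHom R ((MulAut.conjNormal : C →* MulAut R).comp (zpowers ζ).subtype)
  have hsm : ∀ (s : zpowers ζ) (r : R), ((s • r : R) : C) = (s : C) * r * (s : C)⁻¹ := fun s r => rfl
  have hP : IsPGroup q (zpowers ζ) := IsPGroup.of_card (n := 1) (by rw [Nat.card_zpowers, hζo, pow_one])
  have h1 := hP.card_modEq_card_fixedPoints R
  have h2 : Nat.card (MulAction.fixedPoints (zpowers ζ) R) = 1 := by
    rw [Nat.card_eq_one_iff_unique]
    refine ⟨⟨fun a b => ?_⟩, ⟨⟨1, fun s => ?_⟩⟩⟩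
    · have key : ∀ r : MulAction.fixedPoints (zpowers ζ) R, (r : R) = 1 := by
        rintro ⟨r, hr⟩
        have h3 := congrArg (fun x : R => (x : C)) (hr ⟨ζ, mem_zpowers ζ⟩)
        simp only [hsm] at h3
        have h4 : z * ((r : C) : G) * z⁻¹ = ((r : C) : G) := congrArg (fun x : C => (x : G)) h3
        have h5 : Commute (((r : C) : G)) z := by
          rw [mul_inv_eq_iff_eq_mul] at h4
          exact h4.symm
        have h6 : Commute (((r : C) : G)) w := mem_centralizer_singleton_iff.1 (r : C).2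
        have h7 := h _ (h5.mul_right h6)
        obtain ⟨k, hk⟩ := hR2 r
        have h8 : (((r : C) : G)) ^ 2 ^ k = 1 := congrArg (fun x : R => (((x : C) : G))) hk
        have h9 : orderOf (((r : C) : G)) ∣ 1 := by
          have h10 : Nat.Coprime (2 ^ k) n := (Nat.coprime_pow_left_iff_of_pos' hn)
          rw [← h10]
          exact Nat.dvd_gcd (orderOf_dvd_of_pow_eq_one h8) (orderOf_dvd_of_pow_eq_one h7)
        have h10 : (((r : C) : G)) = 1 := orderOf_eq_one_iff.1 (Nat.dvd_one.1 h9)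
        exact Subtype.ext (Subtype.ext h10)
      exact Subtype.ext ((key a).trans (key b).symm)
    · apply Subtype.ext
      rw [hsm]
      simp only [_root_.OneMemClass.coe_one, _root_.mul_one, _root_.mul_inv_cancel]
  rw [h2] at h1
  exact h1
where
  Nat.coprime_pow_left_iff_of_pos' {k n : ℕ} (hn : Odd n) : Nat.Coprime (2 ^ k) n :=
    Nat.Coprime.pow_left k ((Nat.coprime_two_left).2 hn)


theorem commute_of_pcomp {x y : ℕ} (hx : ok x = true) (hy : ok y = true)
    (h : Nat.beq (pcomp x y) (pcomp y x) = true) : el x * el y = el y * el x := by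
  rw [← el_pcomp hx hy, ← el_pcomp hy hx, Nat.eq_of_beq_eq_true h]

theorem ok_z5 : ok z5 = true := by decide +kernel
theorem ok_z7 : ok z7 = true := by decide +kernel
theorem ok_t1 : ok t1 = true := by decide +kernel
theorem ok_t2 : ok t2 = true := by decide +kernel
theorem ok_gB : ok gB = true := by decide +kernel

/-- the 2-core and a bound: a number `2 ^ k ≡ 1` modulo 5 -/
theorem core_A : pCore 2 (centralizer ({el H865.Three.A} : Set M24)) = ⊥ := by
  have hA := H865.Three.okA
  have hcomm := commute_of_pcomp ok_z5 hA (by decide +kernel)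
  have ho : orderOf (el z5) = 5 :=
    orderOf_el p5 ok_z5 (by decide +kernel) 0 (by norm_num) (by decide +kernel)
  have h15 : el z5 * el H865.Three.A = el c15 := by
    rw [← el_pcomp ok_z5 hA]
    exact congrArg el (Nat.eq_of_beq_eq_true (by decide +kernel))
  have hmod := card_core_modEq (w := el H865.Three.A) (z := el z5) p5 hcomm ho (n := 15) (by decide) (fun g hg => by
    rw [h15] at hg
    exact H729.PairMathieu.pow_eq_one_of_list (MonoidHom.id M24) Function.injective_id pre15 (x := el c15) rfl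
      (fun g => st_triv (by decide +kernel) g) all15 hg)
  set C := centralizer ({el H865.Three.A} : Set M24) with hC
  have h27 : 27 ∣ Nat.card C := by
    have h := length_dvd_card_centralizer hA (L := H865.Three.L) (by decide +kernel)
    exact h
  have h5 : 5 ∣ Nat.card C := by
    have h := _root_.orderOf_dvd_natCard (⟨el z5, mem_centralizer_singleton_iff.2 hcomm⟩ : C)
    rwa [← Subgroup.orderOf_coe, ho] at h
  have hle := card_A
  obtain ⟨k, hk⟩ := IsPGroup.iff_card.1 (Lib.Cores.pCore_isPGroup (G := C) 2)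
  have hd : 2 ^ k ∣ Nat.card C := by rw [← hk]; exact card_subgroup_dvd_card _
  rw [hk] at hmod
  have h135 : 135 ∣ Nat.card C := by
    have := Nat.Coprime.mul_dvd_of_dvd_of_dvd (by norm_num : Nat.Coprime 27 5) h27 h5
    simpa only [_root_.Nat.reduceMul] using this
  have hdd : 2 ^ k * 135 ∣ Nat.card C :=
    Nat.Coprime.mul_dvd_of_dvd_of_dvd (Nat.Coprime.pow_left k (by norm_num)) hd h135
  have h6 := (Nat.le_of_dvd Nat.card_pos hdd).trans hle
  have hk3 : k ≤ 3 := by
    by_contra h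
    push Not at h
    have : 2 ^ 4 ≤ 2 ^ k := Nat.pow_le_pow_right (by norm_num) h
    omega
  have hk0 : k = 0 := by
    unfold Nat.ModEq at hmod
    interval_cases k <;> omega
  rw [hk0, pow_zero] at hk
  exact Subgroup.card_eq_one.1 hk

theorem core_c3 : pCore 2 (centralizer ({el c3} : Set M24)) = ⊥ := by
  have hcomm := commute_of_pcomp ok_z7 ok3 (by decide +kernel)
  have p7 : Nat.Prime 7 := by norm_num
  have ho : orderOf (el z7) = 7 :=
    orderOf_el p7 ok_z7 (by decide +kernel) 2 (by norm_num) (by decide +kernel)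
  have h21 : el z7 * el c3 = el c21 := by
    rw [← el_pcomp ok_z7 ok3]
    exact congrArg el (Nat.eq_of_beq_eq_true (by decide +kernel))
  have hmod := card_core_modEq (w := el c3) (z := el z7) p7 hcomm ho (n := 21) (by decide) (fun g hg => by
    rw [h21] at hg
    exact H729.PairMathieu.pow_eq_one_of_list (MonoidHom.id M24) Function.injective_id pre21 (x := el c21) rfl
      (fun g => st_triv (by decide +kernel) g) all21 hg)
  set C := centralizer ({el c3} : Set M24) with hC
  have h9 : 9 ∣ Nat.card C := by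
    have h := length_dvd_card_centralizer ok3 (L := l9) (by decide +kernel)
    exact h
  have h7 : 7 ∣ Nat.card C := by
    have h := _root_.orderOf_dvd_natCard (⟨el z7, mem_centralizer_singleton_iff.2 hcomm⟩ : C)
    rwa [← Subgroup.orderOf_coe, ho] at h
  have hle : Nat.card C ≤ 504 := cent3
  have hRn : (pCore 2 C).Normal := Lib.Cores.pCore_normal 2
  obtain ⟨k, hk⟩ := IsPGroup.iff_card.1 (Lib.Cores.pCore_isPGroup (G := C) 2)
  have hd : 2 ^ k ∣ Nat.card C := by rw [← hk]; exact card_subgroup_dvd_card _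
  rw [hk] at hmod
  have h63 : 63 ∣ Nat.card C := by
    have := Nat.Coprime.mul_dvd_of_dvd_of_dvd (by norm_num : Nat.Coprime 9 7) h9 h7
    simpa only [_root_.Nat.reduceMul] using this
  have hdd : 2 ^ k * 63 ∣ Nat.card C :=
    Nat.Coprime.mul_dvd_of_dvd_of_dvd (Nat.Coprime.pow_left k (by norm_num)) hd h63
  have h6 := (Nat.le_of_dvd Nat.card_pos hdd).trans hle
  have hk3 : k ≤ 3 := by
    by_contra h
    push Not at h
    have : 2 ^ 4 ≤ 2 ^ k := Nat.pow_le_pow_right (by norm_num) h
    omega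
  have hk0 : k = 0 ∨ k = 3 := by
    unfold Nat.ModEq at hmod
    interval_cases k <;> omega
  rcases hk0 with hk0 | hk0
  · rw [hk0, pow_zero] at hk
    exact Subgroup.card_eq_one.1 hk
  · exfalso
    rw [hk0] at hk hdd
    have hcard : Nat.card C = 504 := by
      have := Nat.le_of_dvd Nat.card_pos hdd
      (clear * - hle this; omega)
    have hidx : (pCore 2 C).index = 63 := by
      have h := (pCore 2 C).card_mul_index
      rw [hk, hcard] at h
      omega
    have c1 := commute_of_pcomp ok_t1 ok3 (by decide +kernel)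
    have c2 := commute_of_pcomp ok_t2 ok3 (by decide +kernel)
    have key : ∀ (t : ℕ) (ht : ok t = true) (hc : el t * el c3 = el c3 * el t), Nat.beq (ppow t 2) idP = true →
        (⟨el t, mem_centralizer_singleton_iff.2 hc⟩ : C) ∈ pCore 2 C := by
      intro t ht hc h2
      have h := Subgroup.pow_index_mem (pCore 2 C) (⟨el t, mem_centralizer_singleton_iff.2 hc⟩ : C)
      rw [hidx] at h
      have h3 : (⟨el t, mem_centralizer_singleton_iff.2 hc⟩ : C) ^ 63 = ⟨el t, mem_centralizer_singleton_iff.2 hc⟩ := by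
        apply Subtype.ext
        show (el t) ^ 63 = el t
        have h4 := el_pow_eq_one ht h2
        rw [show 63 = 2 * 31 + 1 by norm_num, pow_succ, pow_mul, h4, one_pow, one_mul]
      rwa [h3] at h
    have h1 := mul_mem (key t1 ok_t1 c1 (by decide +kernel)) (key t2 ok_t2 c2 (by decide +kernel))
    have h2 : (el t1 * el t2) ^ 8 = 1 := by
      have h3 : (⟨_, h1⟩ : pCore 2 C) ^ 2 ^ 3 = 1 := by rw [← hk]; exact pow_card_eq_one'
      have h4 := congrArg (fun x : pCore 2 C => ((x : C) : M24)) h3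
      exact h4
    have h12 : el t1 * el t2 = el (pcomp t1 t2) := (el_pcomp ok_t1 ok_t2).symm
    have hok := ok_pcomp ok_t1 ok_t2
    have h3 : (el t1 * el t2) ^ 3 = 1 := by
      rw [h12]
      exact el_pow_eq_one hok (by decide +kernel)
    have h4 : el t1 * el t2 = 1 := by
      have h5 : (el t1 * el t2) ^ 9 = 1 := by rw [show 9 = 3 * 3 by norm_num, pow_mul, h3, one_pow]
      rw [show 9 = 8 + 1 by norm_num, pow_succ, h2, one_mul] at h5
      exact h5
    rw [h12] at h4
    exact el_ne_one hok 0 (by norm_num) (by decide +kernel) h4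

/-- the 2-core of a centralizer is invariant under conjugation -/
theorem core_conj {G : Type*} [Group G] {w v c : G} (h : c * w * c⁻¹ = v)
    (hv : pCore 2 (centralizer ({v} : Set G)) = ⊥) : pCore 2 (centralizer ({w} : Set G)) = ⊥ := by
  subst h
  have e : centralizer ({c * w * c⁻¹} : Set G) ≃* centralizer ({w} : Set G) :=
    { toFun := fun x => ⟨c⁻¹ * x * c, by
        have h := mem_centralizer_singleton_iff.1 x.2
        rw [mem_centralizer_singleton_iff]
        calc c⁻¹ * x * c * w = c⁻¹ * (x * (c * w * c⁻¹)) * c := by group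
          _ = c⁻¹ * ((c * w * c⁻¹) * x) * c := by rw [h]
          _ = w * (c⁻¹ * x * c) := by group⟩
      invFun := fun x => ⟨c * x * c⁻¹, by
        have h := mem_centralizer_singleton_iff.1 x.2
        rw [mem_centralizer_singleton_iff]
        calc c * x * c⁻¹ * (c * w * c⁻¹) = c * (x * w) * c⁻¹ := by group
          _ = c * (w * x) * c⁻¹ := by rw [h]
          _ = c * w * c⁻¹ * (c * x * c⁻¹) := by group⟩
      left_inv := fun x => Subtype.ext (by show c * (c⁻¹ * x * c) * c⁻¹ = x; group)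
      right_inv := fun x => Subtype.ext (by show c⁻¹ * (c * x * c⁻¹) * c = x; group)
      map_mul' := fun x y => Subtype.ext (by show c⁻¹ * (x * y) * c = c⁻¹ * x * c * (c⁻¹ * y * c); group) }
  have h1 : (pCore 2 (centralizer ({w} : Set G))).map e.symm.toMonoidHom ≤ pCore 2 (centralizer ({c * w * c⁻¹} : Set G)) :=
    Lib.Cores.le_pCore ((Lib.Cores.pCore_normal 2).map _ e.symm.surjective) ((Lib.Cores.pCore_isPGroup 2).map _)
  rw [hv, le_bot_iff, Subgroup.map_eq_bot_iff_of_injective _ e.symm.injective] at h1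
  exact h1

/-- **`O_2(C(w)) = 1` for the elements of order 3.** -/
theorem core_three {w : M24} (hw : orderOf w = 3) : pCore 2 (centralizer ({w} : Set M24)) = ⊥ := by
  obtain ⟨c, h | h⟩ := H865.Three.conj_of_orderOf hw
  · exact core_conj h core_A
  · have h1 : el gB * el H865.Three.B = el c3 * el gB := by
      rw [← el_pcomp ok_gB H865.Three.okB, ← el_pcomp ok3 ok_gB]
      exact congrArg el (Nat.eq_of_beq_eq_true (by decide +kernel))
    refine core_conj (c := el gB * c) (v := el c3) ?_ core_c3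
    rw [mul_inv_rev, show el gB * c * w * (c⁻¹ * (el gB)⁻¹) = el gB * (c * w * c⁻¹) * (el gB)⁻¹ by group, h, h1]
    group

end Cfsg.Agent.H35.M24Two

private theorem dce_1a9c25ed28e4 : _root_.True := by
  try have : _root_.True := by simp only [_root_.Cfsg.Agent.H35.M24Two.f4.eq_1]
  try have : _root_.True := by simp only [_root_.Cfsg.Agent.H35.M24Two.tup.eq_1]
  exact _root_.True.intro
end

section
prune_inst 0xfdfefbbff8addeffff7e7ffffddfffbdecefffefdff9fbfffdfbdfffff6b6f6be5fbaf6fecd8fceef6e21410f87b13fbffeeffe36bdc7ffffd5ff45ffbff9fffffbf0951d6983e0ffe6ffffbfb7fae7f000000000000000000000000000041004200000000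

-- part: H35/M24Two/Row
section
prune_inst 0x20100400052210000000000020000421310001020020000000420000080009410000090030103110110aaaa0400e8040011000c9421000002a00820040040000040b62c2927c0d00110000404805180c00000000000000000000000000000000000000000
set_option linter.all false
open scoped Cfsg.Agent.FastGrp

/-!
# S4095 at the prime 2: the row of `M24` (helper35)
-/

set_option autoImplicit false
set_option linter.unusedSectionVars false

namespace Cfsg.Agent.H35.M24Two

open Cfsg Subgroup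
open Cfsg.Agent.SporadicA.GolayBase Cfsg.Agent.SporadicA.GolayPerm
open Cfsg.Agent.SporadicStructure.M24El Cfsg.Agent.H729.Trans Cfsg.Agent.H729.MData Cfsg.Agent.H729.Count
open Cfsg.Agent.H729.M24Deg Cfsg.Agent.H509.Weak Cfsg.Agent.H516

universe u

/-- the subgroup `23:11` -/
def Q253 : Subgroup M24 := SporadicStructure.Affine23.K.subgroupOf M24

theorem card_Q253 : Nat.card Q253 = 253 := by
  rw [← SporadicStructure.Affine23.card_K]
  exact Nat.card_congr (subgroupOfEquivOfLe S1643.K_le_M24).toEquiv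

theorem card_small {p c : ℕ} (hp : p.Prime) (hd : ¬ p ^ 2 ∣ Nat.card M24) (ho : orderOf (el c) = p) {n : ℕ}
    (hn : Nat.card (centralizer ({el c} : Set M24)) ≤ n) {w : M24} (hw : orderOf w = p) :
    Nat.card (centralizer ({w} : Set M24)) ≤ n := by
  rw [H729.PairBase.card_cent_of_one hp hd ho hw]
  exact hn

def st7 : List (ℕ × List ℕ × List (List (ℕ × ℕ))) := [(0, List.range 24, []),
  (17, List.range 24, []),
  (23, List.range 24, []),
  (1, List.range 24, [[(0, 0), (3, 0), (3, 3), (3, 4), (3, 2), (3, 6), (3, 1), (3, 5)]]),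
  (2, List.range 24, [[(0, 0), (3, 0), (3, 3), (4, 3), (4, 4), (4, 6), (3, 1), (1, 0)]]),
  (7, List.range 24, [[(0, 0), (5, 2), (4, 1), (1, 0), (5, 4), (5, 6), (3, 5), (5, 3)]])]

theorem pre7 : pre 7 cM7 wdM7 st7 = true := by decide +kernel
private noncomputable def _root_.Cfsg.Agent.LsF.f7fc0df_0 : {f // @Cfsg.Agent.SporadicA.GolayPerm.papp = f} := ⟨_, by first | (delta Cfsg.Agent.SporadicA.GolayPerm.papp; rewrite [Cfsg.Agent.LsF.nmul_pat, Cfsg.Agent.LsF.nmod_pat, Cfsg.Agent.LsF.nshr_pat]; exact rfl) | exact rfl⟩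
private noncomputable def _root_.Cfsg.Agent.LsF.f7fc0df_1 : {f // @Cfsg.Agent.SporadicA.GolayPerm.pimg = f} := ⟨_, by first | (delta Cfsg.Agent.SporadicA.GolayPerm.pimg; rewrite [Cfsg.Agent.LsF.f7fc0df_0.2, Cfsg.Agent.LsF.nmod_pat, Cfsg.Agent.LsF.nxor_pat, Cfsg.Agent.LsF.nshl_pat, Cfsg.Agent.LsF.nshr_pat]; exact rfl) | exact rfl⟩
private noncomputable def _root_.Cfsg.Agent.LsF.f7fc0df_2 : {f // @Cfsg.Agent.SporadicA.GolayPerm.isPerm = f} := ⟨_, by first | (delta Cfsg.Agent.SporadicA.GolayPerm.isPerm; rewrite [Cfsg.Agent.LsF.f7fc0df_1.2]; exact rfl) | exact rfl⟩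
private noncomputable def _root_.Cfsg.Agent.LsF.f7fc0df_3 : {f // @Cfsg.Agent.SporadicA.GolayBase.enc = f} := ⟨_, by first | (delta Cfsg.Agent.SporadicA.GolayBase.enc; rewrite [Cfsg.Agent.LsF.nmul_pat, Cfsg.Agent.LsF.nmod_pat, Cfsg.Agent.LsF.nxor_pat, Cfsg.Agent.LsF.nshr_pat]; exact rfl) | exact rfl⟩
private noncomputable def _root_.Cfsg.Agent.LsF.f7fc0df_4 : {f // @Cfsg.Agent.SporadicA.GolayBase.isCode = f} := ⟨_, by first | (delta Cfsg.Agent.SporadicA.GolayBase.isCode; rewrite [Cfsg.Agent.LsF.f7fc0df_3.2]; exact rfl) | exact rfl⟩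
private noncomputable def _root_.Cfsg.Agent.LsF.f7fc0df_5 : {f // @Cfsg.Agent.SporadicA.GolayPerm.isAut = f} := ⟨_, by first | (delta Cfsg.Agent.SporadicA.GolayPerm.isAut; rewrite [Cfsg.Agent.LsF.f7fc0df_4.2, Cfsg.Agent.LsF.f7fc0df_1.2, Cfsg.Agent.LsF.and_eq]; exact rfl) | exact rfl⟩
private noncomputable def _root_.Cfsg.Agent.LsF.f7fc0df_6 : {f // @Cfsg.Agent.SporadicStructure.M24El.ok = f} := ⟨_, by first | (delta Cfsg.Agent.SporadicStructure.M24El.ok; rewrite [Cfsg.Agent.LsF.f7fc0df_2.2, Cfsg.Agent.LsF.f7fc0df_5.2, Cfsg.Agent.LsF.and_eq]; exact rfl) | exact rfl⟩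
private noncomputable def _root_.Cfsg.Agent.LsF.f7fc0df_7 : {f // @Cfsg.Agent.SporadicA.GolayPerm.pack = f} := ⟨_, by first | (delta Cfsg.Agent.SporadicA.GolayPerm.pack List.brecOn List.brecOn.go Cfsg.Agent.SporadicA.GolayPerm.pack._f; rewrite [Cfsg.Agent.LsF.nadd_pat, Cfsg.Agent.LsF.nmul_pat]; (try delta Cfsg.Agent.SporadicA.GolayPerm.pack.match_1); (try delta List.casesOn); first | dsimp -zeta only | exact rfl) | exact rfl⟩
private noncomputable def _root_.Cfsg.Agent.LsF.f7fc0df_8 : {f // @Cfsg.Agent.H729.Trans.pw = f} := ⟨_, by first | (delta Cfsg.Agent.H729.Trans.pw Nat.brecOn.go Nat.brecOn Cfsg.Agent.H729.Trans.pw._f; rewrite [Cfsg.Agent.LsF.f7fc0df_0.2]; (try delta Cfsg.Agent.H729.Trans.pw.match_1); (try delta Nat.casesOn); first | dsimp -zeta only | exact rfl) | exact rfl⟩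
private noncomputable def _root_.Cfsg.Agent.LsF.f7fc0df_9 : {f // @Cfsg.Agent.H729.Trans.build = f} := ⟨_, by first | (delta Cfsg.Agent.H729.Trans.build; rewrite [Cfsg.Agent.LsF.f7fc0df_7.2, Cfsg.Agent.LsF.f7fc0df_8.2, Cfsg.Agent.LsF.map_eq, Cfsg.Agent.LsF.getD_eq]; exact rfl) | exact rfl⟩
private noncomputable def _root_.Cfsg.Agent.LsF.f7fc0df_10 : {f // @Cfsg.Agent.H729.Trans.mk = f} := ⟨_, by first | (delta Cfsg.Agent.H729.Trans.mk List.brecOn List.brecOn.go Cfsg.Agent.H729.Trans.mk._f; rewrite [Cfsg.Agent.LsF.f7fc0df_8.2, Cfsg.Agent.LsF.nxor_pat, Cfsg.Agent.LsF.nshl_pat, Cfsg.Agent.LsF.getD_eq]; (try delta Cfsg.Agent.H729.Trans.mk.match_1); (try delta List.casesOn); first | dsimp -zeta only | exact rfl) | exact rfl⟩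
private noncomputable def _root_.Cfsg.Agent.LsF.f7fc0df_11 : {f // @Cfsg.Agent.H729.Trans.good = f} := ⟨_, by first | (delta Cfsg.Agent.H729.Trans.good; rewrite [Cfsg.Agent.LsF.f7fc0df_0.2, Cfsg.Agent.LsF.f7fc0df_8.2, Cfsg.Agent.LsF.f7fc0df_4.2, Cfsg.Agent.LsF.f7fc0df_10.2, Cfsg.Agent.LsF.lappend_pat, Cfsg.Agent.LsF.and_eq, Cfsg.Agent.LsF.not_eq, Cfsg.Agent.LsF.cond_eq, Cfsg.Agent.LsF.all_eq, Cfsg.Agent.LsF.range_eq]; exact rfl) | exact rfl⟩
private noncomputable def _root_.Cfsg.Agent.LsF.f7fc0df_12 : {f // @Cfsg.Agent.H729.Trans.srch = f} := ⟨_, by first | (delta Cfsg.Agent.H729.Trans.srch List.brecOn List.brecOn.go Cfsg.Agent.H729.Trans.srch._f; rewrite [Cfsg.Agent.LsF.f7fc0df_11.2, Cfsg.Agent.LsF.lappend_pat, Cfsg.Agent.LsF.map_eq, Cfsg.Agent.LsF.flatMap_eq, Cfsg.Agent.LsF.filter_eq]; (try delta Cfsg.Agent.H729.Trans.srch.match_1); (try delta List.casesOn); first | dsimp -zeta only | exact rfl) | exact rfl⟩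
private noncomputable def _root_.Cfsg.Agent.LsF.f7fc0df_13 : {f // @Cfsg.Agent.H729.Trans.tl = f} := ⟨_, by first | (delta Cfsg.Agent.H729.Trans.tl; rewrite [Cfsg.Agent.LsF.f7fc0df_6.2, Cfsg.Agent.LsF.f7fc0df_9.2, Cfsg.Agent.LsF.f7fc0df_12.2, Cfsg.Agent.LsF.map_eq, Cfsg.Agent.LsF.filter_eq]; exact rfl) | exact rfl⟩
private noncomputable def _root_.Cfsg.Agent.LsF.f7fc0df_14 : {f // @Cfsg.Agent.H35.M24Two.st7 = f} := ⟨_, by first | (delta Cfsg.Agent.H35.M24Two.st7; rewrite [Cfsg.Agent.LsF.range_eq]; exact rfl) | exact rfl⟩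
theorem len7 : (tl 7 cM7 cM7 wdM7 st7).length = 42 := by (refine of_decide_eq_true ?_; (try (rewrite [Cfsg.Agent.LsF.f7fc0df_13.2, Cfsg.Agent.LsF.f7fc0df_14.2, Cfsg.Agent.LsF.instDecEq_eq, Cfsg.Agent.LsF.length_eq, Cfsg.Agent.LsF.decide_eq])); decide +kernel)

private noncomputable def _root_.Cfsg.Agent.LsF.f7fc0df_15 : {f // @Cfsg.Agent.H729.MData.st23 = f} := ⟨_, by first | (delta Cfsg.Agent.H729.MData.st23; rewrite [Cfsg.Agent.LsF.range_eq]; exact rfl) | exact rfl⟩
theorem len23 : (tl 23 c23 c23 wd23 st23).length = 23 := by (refine of_decide_eq_true ?_; (try (rewrite [Cfsg.Agent.LsF.f7fc0df_13.2, Cfsg.Agent.LsF.f7fc0df_15.2, Cfsg.Agent.LsF.instDecEq_eq, Cfsg.Agent.LsF.length_eq, Cfsg.Agent.LsF.decide_eq])); decide +kernel)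

theorem prime_cases {q : ℕ} (h1 : q.Prime) (h2 : q ∣ Nat.card M24) :
    q = 2 ∨ q = 3 ∨ q = 5 ∨ q = 7 ∨ q = 11 ∨ q = 23 := by
  rw [card_M24, show 244823040 = 2 ^ 10 * 3 ^ 3 * 5 * 7 * 11 * 23 by norm_num] at h2
  have key : ∀ r : ℕ, r.Prime → ∀ k, q ∣ r ^ k → q = r := fun r hr k h =>
    (Nat.prime_dvd_prime_iff_eq h1 hr).1 (h1.dvd_of_dvd_pow h)
  rcases (Nat.Prime.dvd_mul h1).1 h2 with h2 | h2
  · rcases (Nat.Prime.dvd_mul h1).1 h2 with h2 | h2
    · rcases (Nat.Prime.dvd_mul h1).1 h2 with h2 | h2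
      · rcases (Nat.Prime.dvd_mul h1).1 h2 with h2 | h2
        · rcases (Nat.Prime.dvd_mul h1).1 h2 with h2 | h2
          · exact Or.inl (key 2 (by norm_num) 10 h2)
          · exact Or.inr (Or.inl (key 3 (by norm_num) 3 h2))
        · exact Or.inr (Or.inr (Or.inl (key 5 (by norm_num) 1 (by rw [pow_one]; exact h2))))
      · exact Or.inr (Or.inr (Or.inr (Or.inl (key 7 (by norm_num) 1 (by rw [pow_one]; exact h2)))))
    · exact Or.inr (Or.inr (Or.inr (Or.inr (Or.inl (key 11 (by norm_num) 1 (by rw [pow_one]; exact h2))))))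
  · exact Or.inr (Or.inr (Or.inr (Or.inr (Or.inr (key 23 (by norm_num) 1 (by rw [pow_one]; exact h2))))))

theorem factA_M24 : FactA M24 := by
  refine ⟨Q253, by rw [card_Q253]; decide, fun w hw hw2 => ?_⟩
  rw [card_Q253]
  rcases prime_cases hw (orderOf_dvd_natCard w) with h | h | h | h | h | h
  · exact absurd h hw2
  · exact Or.inl (core_three h)
  · right
    have := card_small (n := 60) p5 (by rw [card_M24]; norm_num) o5 (by
      have h1 := card_cent_le (MonoidHom.id M24) Function.injective_id pre5 (x := el c5) rfl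
        (fun g => st_triv (by decide +kernel) g)
      rwa [len5] at h1) h
    omega
  · right
    have p7 : Nat.Prime 7 := by norm_num
    have o7 : orderOf (el cM7) = 7 :=
      orderOf_el p7 (ok_of_pre pre7) (by decide +kernel) 1 (by norm_num) (by decide +kernel)
    have := card_small (n := 42) p7 (by rw [card_M24]; norm_num) o7 (by
      have h1 := card_cent_le (MonoidHom.id M24) Function.injective_id pre7 (x := el cM7) rfl
        (fun g => st_triv (by decide +kernel) g)
      rwa [len7] at h1) h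
    omega
  · right
    have := H729.PairMathieu.card_cent_eleven h
    omega
  · right
    have := card_small (n := 23) p23 (by rw [card_M24]; norm_num) o23 (by
      have h1 := card_cent_le (MonoidHom.id M24) Function.injective_id pre23 (x := el c23) rfl
        (fun g => st_triv (by decide +kernel) g)
      rwa [len23] at h1) h
    omega

/-- isomorphic centralizers -/
noncomputable def centIso {L M : Type*} [Group L] [Group M] (e : L ≃* M) (y : L) :
    ↥(centralizer ({y} : Set L)) ≃* ↥(centralizer ({e y} : Set M)) :=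
  (e.subgroupMap (centralizer ({y} : Set L))).trans (MulEquiv.subgroupCongr (by
    ext g
    rw [mem_centralizer_singleton_iff]
    constructor
    · rintro ⟨s, hs, rfl⟩
      have h1 := mem_centralizer_singleton_iff.1 hs
      change e s * e y = e y * e s
      rw [← map_mul, ← map_mul, h1]
    · intro h
      refine ⟨e.symm g, ?_, e.apply_symm_apply g⟩
      change e.symm g ∈ centralizer ({y} : Set L)
      rw [mem_centralizer_singleton_iff]
      apply e.injective
      rw [map_mul, map_mul, e.apply_symm_apply]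
      exact h))

theorem factA_of_iso {L M : Type*} [Group L] [Group M] (e : L ≃* M) (h : FactA M) : FactA L := by
  obtain ⟨Q, hQ, hall⟩ := h
  have hc : Nat.card (Q.map e.symm.toMonoidHom) = Nat.card Q :=
    (Nat.card_congr (e.symm.subgroupMap Q).toEquiv).symm
  refine ⟨Q.map e.symm.toMonoidHom, by rw [hc]; exact hQ, fun w hw hw2 => ?_⟩
  rw [hc]
  have ho : orderOf (e w) = orderOf w := MulEquiv.orderOf_eq e w
  rcases hall (e w) (by rw [ho]; exact hw) (by rw [ho]; exact hw2) with h1 | h1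
  · exact Or.inl (pCore_equiv (centIso e w).symm h1)
  · right
    rw [Nat.card_congr (centIso e w).toEquiv]
    exact h1

section

variable {L : Type u} [Group L] [Finite L] {a : MulAut L} (W : Wk a) (e : L ≃* M24) {x : L} {n : ℕ}

include W e

theorem small (ha : a = MulAut.conj x) {c : M24} {P : ℕ} (hc : c * e x * c⁻¹ = el P)
    (hle : Nat.card (centralizer ({el P} : Set M24)) ≤ 252) : False := by
  have hQ : Nat.card (Q253.map e.symm.toMonoidHom) = 253 := by
    rw [← card_Q253]
    exact (Nat.card_congr (e.symm.subgroupMap Q253).toEquiv).symm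
  have h1 := W.card_le (Q := Q253.map e.symm.toMonoidHom) (by rw [hQ]; decide)
  rw [hQ] at h1
  have h2 : fixedSubgroup a ≤ centralizer ({x} : Set L) := by
    intro s hs
    rw [mem_centralizer_singleton_iff]
    have h3 : a s = s := hs
    rw [ha, MulAut.conj_apply, mul_inv_eq_iff_eq_mul] at h3
    exact h3.symm
  have h3 := Subgroup.card_le_of_le h2
  rw [Nat.card_congr (centIso e x).toEquiv, Nat.card_congr (centIso (MulAut.conj c) (e x)).toEquiv,
    MulAut.conj_apply, hc] at h3
  omega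

theorem fixed (ha : a = MulAut.conj x) (hn : a ^ 2 ^ n = 1) {c : M24} {P y : ℕ} (hc : c * e x * c⁻¹ = el P)
    (hy : orderOf (el y) = 3) (hcomm : el y * el P = el P * el y) : False := by
  obtain ⟨v, hv⟩ : ∃ v : M24, v = c⁻¹ * el y * c := ⟨_, rfl⟩
  have hvo : orderOf v = 3 := by
    rw [← hy, hv]
    have h1 : c⁻¹ * el y * c = MulAut.conj c⁻¹ (el y) := by rw [MulAut.conj_apply, inv_inv]
    rw [h1]
    exact MulEquiv.orderOf_eq _ _
  have hvx : v * e x = e x * v := by
    have h1 : e x = c⁻¹ * el P * c := by rw [← hc]; group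
    rw [h1, hv]
    calc c⁻¹ * el y * c * (c⁻¹ * el P * c) = c⁻¹ * (el y * el P) * c := by group
      _ = c⁻¹ * (el P * el y) * c := by rw [hcomm]
      _ = c⁻¹ * el P * c * (c⁻¹ * el y * c) := by group
  have hv1 : v ≠ 1 := by
    intro h
    rw [h, orderOf_one] at hvo
    norm_num at hvo
  refine W.false_of_fix hn (y := e.symm v) ?_ ?_ (pCore_equiv (centIso e.symm v) (core_three hvo))
  · intro h
    apply hv1
    rw [← e.apply_symm_apply v, h, map_one]
  · rw [ha, MulAut.conj_apply, mul_inv_eq_iff_eq_mul]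
    apply e.injective
    rw [map_mul, map_mul, e.apply_symm_apply]
    exact hvx.symm

end

theorem ok_y1 : ok y1 = true := by decide +kernel
theorem ok_y2 : ok y2 = true := by decide +kernel
theorem ok_y3 : ok y3 = true := by decide +kernel

/-- **S4095 at the prime 2 for `M24`.** -/
theorem row {L : Type u} [Group L] [Finite L] (h : Cfsg.Spor.IsoM24 L) (B : Base L) : Row 2 L := by
  rw [row_iff]
  intro a ha
  by_contra hne
  have W : Wk a := { B with bad := ha, ne := hne }
  obtain ⟨e⟩ := h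
  obtain ⟨n, hn⟩ := W.two_of_factA (factA_of_iso e factA_M24)
  -- `a` is inner
  obtain ⟨x, hx⟩ : ∃ x : L, a = MulAut.conj x := by
    obtain ⟨k, hk⟩ := KFacts.M24Two.Out.exists_conj (MulAut.congr e a)
    refine ⟨e.symm k, ?_⟩
    apply MulEquiv.ext
    intro s
    apply e.injective
    have h1 := congrArg (fun f : MulAut M24 => f (e s)) hk
    have h2 : (MulAut.congr e a) (e s) = e (a s) := by
      show e (a (e.symm (e s))) = _
      rw [e.symm_apply_apply]
    rw [MulAut.conj_apply, map_mul, map_mul, map_inv, e.apply_symm_apply]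
    simp only [h2, MulAut.conj_apply] at h1
    exact h1
  have hx2 : (e x) ^ 2 ^ n = 1 := by
    rw [← map_pow]
    have h1 : x ^ 2 ^ n = 1 := by
      apply conj_injective W.center
      rw [map_pow, ← hx, hn, map_one]
    rw [h1, map_one]
  obtain ⟨c, j, hc⟩ := H860.Two24.two_conj hx2
  have h1 : ∀ P : ℕ, c * e x * c⁻¹ = el P → el P = 1 → False := by
    intro P hP hP1
    rw [hP1] at hP
    have h2 : e x = 1 := by
      have h3 : e x = c⁻¹ * (c * e x * c⁻¹) * c := by group
      rw [h3, hP]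
      group
    apply hne
    rw [hx, (map_eq_one_iff e e.injective).1 h2, map_one]
  rcases Nat.lt_or_ge j 7 with hj | hj
  · interval_cases j
    · exact h1 _ hc el_idP
    · exact fixed W e hx hn hc
        (orderOf_el p3 ok_y1 (by decide +kernel) 0 (by norm_num) (by decide +kernel))
        (commute_of_pcomp ok_y1 (by decide +kernel) (by decide +kernel))
    · exact fixed W e hx hn hc
        (orderOf_el p3 ok_y2 (by decide +kernel) 0 (by norm_num) (by decide +kernel))
        (commute_of_pcomp ok_y2 (by decide +kernel) (by decide +kernel))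
    · exact fixed W e hx hn hc
        (orderOf_el p3 ok_y3 (by decide +kernel) 0 (by norm_num) (by decide +kernel))
        (commute_of_pcomp ok_y3 (by decide +kernel) (by decide +kernel))
    · exact small W e hx (P := c4B) hc (card_4B.trans (by norm_num))
    · exact small W e hx (P := c4C) hc (card_4C.trans (by norm_num))
    · exact small W e hx (P := c8A) hc (card_8A.trans (by norm_num))
  · rw [List.getD_eq_default _ _ (by exact hj)] at hc
    exact h1 _ hc el_idP

end Cfsg.Agent.H35.M24Two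
end

-- part: H191/WeakTool
section
prune_inst 0x20004400442210000018000000000001110001000060000000020000000909400001090122203110100aaa4020080040011000c0421800002a00000040000000000a628202400100000000000005180c00000000000000000000000000000000000000000
set_option linter.all false
open scoped Cfsg.Agent.FastGrp

/-!
# Tools for the sporadic rows of S4095 at the prime 2 (helper191)

* `exists_big` : a `p`-group `P` acting on a 2-group `T ≠ 1` as an elementary abelian group: an involution of `T` is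
  centralized by a subgroup `B ≤ P` with `|P| ∣ p |B|`;
* `core_of_cube` : `O_2(C(c)) = 1` if `c` is the commutator of `a, b`, `⟨a, b, c⟩` of order `p ^ 3` and exponent `p`, and
  `p ^ 2` does not divide the orders of the centralizers of the involutions;
* `core_of_small` : the same if `p ^ 2 ∣ |C(w)|` and `p ∤ 2 ^ k - 1` for `2 ^ k p ^ 2 ≤ |C(w)|`, `k ≥ 1`;
* `core_of_zpowers` : conjugate subgroups.
-/

set_option autoImplicit false
set_option linter.unusedSectionVars false

namespace Cfsg.Agent.H191.WeakTool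

open Subgroup Cfsg Cfsg.Agent.Lib Cfsg.Agent.H978.RadCube Cfsg.Agent.Lib.CoprimeHyperplane

section

variable {G : Type*} [Group G] [Finite G] {p : ℕ} [hp : Fact p.Prime]

theorem exists_invol {T : Subgroup G} (hT : IsPGroup 2 T) (hT1 : T ≠ ⊥) : ∃ t ∈ T, orderOf t = 2 := by
  have h2 : Fact (Nat.Prime 2) := ⟨Nat.prime_two⟩
  obtain ⟨n, hn⟩ := IsPGroup.iff_card.1 hT
  have h1 : 2 ∣ Nat.card T := by
    rw [hn]
    apply dvd_pow_self
    rintro rfl
    rw [pow_zero] at hn
    exact hT1 (Subgroup.card_eq_one.1 hn)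
  obtain ⟨t, ht⟩ := exists_prime_orderOf_dvd_card' (G := T) 2 h1
  exact ⟨t, t.2, by rw [Subgroup.orderOf_coe]; exact ht⟩

theorem exists_big (hp2 : p ≠ 2) {P T : Subgroup G} (hT : IsPGroup 2 T) (hT1 : T ≠ ⊥)
    (hN : P ≤ normalizer (T : Set G)) (hcomm : ∀ x ∈ P, ∀ y ∈ P, ∀ t ∈ T, (x * y) * t * (x * y)⁻¹ = (y * x) * t * (y * x)⁻¹)
    (hpow : ∀ x ∈ P, ∀ t ∈ T, x ^ p * t * (x ^ p)⁻¹ = t) :
    ∃ B : Subgroup G, B ≤ P ∧ Nat.card P ∣ p * Nat.card B ∧ ∃ t ∈ T, orderOf t = 2 ∧ B ≤ centralizer ({t} : Set G) := by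
  have h2 : Fact (Nat.Prime 2) := ⟨Nat.prime_two⟩
  let φ : P →* MulAut T := conjHom hN
  have hφ : ∀ (x : P) (t : T), ((φ x t : T) : G) = x * t * (x : G)⁻¹ := fun x t => rfl
  let cA : CommGroup φ.range :=
    { (inferInstance : Group φ.range) with
      mul_comm := by
        rintro ⟨_, x, rfl⟩ ⟨_, y, rfl⟩
        apply Subtype.ext
        change φ x * φ y = φ y * φ x
        rw [← map_mul, ← map_mul]
        ext t
        rw [hφ, hφ]
        exact hcomm x x.2 y y.2 t t.2 }
  have hA : ∀ a : φ.range, a ^ p = 1 := by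
    rintro ⟨_, x, rfl⟩
    apply Subtype.ext
    change φ x ^ p = 1
    rw [← map_pow]
    ext t
    rw [hφ]
    exact hpow x x.2 t t.2
  -- from a subgroup of `T`
  have key : ∀ B' : Subgroup P, Nat.card P ∣ p * Nat.card B' → (∃ t : T, t ≠ 1 ∧ ∀ b ∈ B', φ b t = t) →
      ∃ B : Subgroup G, B ≤ P ∧ Nat.card P ∣ p * Nat.card B ∧ ∃ t ∈ T, orderOf t = 2 ∧
        B ≤ centralizer ({t} : Set G) := by
    rintro B' hc ⟨t, ht1, ht⟩
    refine ⟨B'.map P.subtype, Subgroup.map_subtype_le B', ?_, ?_⟩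
    · rwa [Subgroup.card_map_of_injective P.subtype_injective]
    · have h3 : IsPGroup 2 (zpowers (t : G)) := hT.to_le (zpowers_le.2 t.2)
      have h4 : zpowers (t : G) ≠ ⊥ := by
        rw [Ne, zpowers_eq_bot]
        exact fun h => ht1 (Subtype.ext h)
      obtain ⟨s, ⟨k, hk⟩, hs⟩ := exists_invol h3 h4
      have hk' : (t : G) ^ k = s := hk
      refine ⟨s, ?_, hs, ?_⟩
      · rw [← hk']
        exact zpow_mem t.2 k
      · rintro _ ⟨b, hb, rfl⟩
        rw [mem_centralizer_singleton_iff]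
        have h5 : (b : G) * t * (b : G)⁻¹ = t := by
          rw [← hφ, ht b hb]
        have h6 : Commute (b : G) t := mul_inv_eq_iff_eq_mul.1 h5
        rw [← hk']
        exact (h6.zpow_right k).eq
  by_cases hnt : Nontrivial φ.range
  · have h1 := iSup_fix_eq_top_of_isPGroup (A := φ.range) (R := T) φ.range.subtype hp2 hA hT
    by_contra hcon
    have h3 : ∀ B : {B : Subgroup φ.range // B.index = p}, fix φ.range.subtype B.1 ≤ ⊥ := by
      intro B t ht
      by_contra ht1
      apply hcon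
      refine key (B.1.comap φ.rangeRestrict) ?_ ⟨t, ht1, ?_⟩
      · have h4 := Subgroup.index_comap_of_surjective B.1 (f := φ.rangeRestrict) φ.rangeRestrict_surjective
        have h5 := Subgroup.card_mul_index (B.1.comap φ.rangeRestrict)
        rw [h4, B.2] at h5
        rw [← h5, mul_comm]
      · intro b hb
        exact ht _ hb
    have h4 : (⊤ : Subgroup T) ≤ ⊥ := by
      rw [← h1]
      exact iSup_le h3
    apply hT1
    rw [eq_bot_iff]
    intro t ht
    have h5 : (⟨t, ht⟩ : T) ∈ (⊥ : Subgroup T) := h4 (mem_top _)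
    rw [mem_bot] at h5 ⊢
    exact congrArg Subtype.val h5
  · refine key ⊤ ?_ ?_
    · rw [Subgroup.card_top]
      exact dvd_mul_left _ _
    · obtain ⟨t, ht, hto⟩ := exists_invol hT hT1
      refine ⟨⟨t, ht⟩, ?_, ?_⟩
      · intro h
        have h3 : t = 1 := congrArg Subtype.val h
        rw [h3, orderOf_one] at hto
        omega
      · intro b _
        rw [not_nontrivial_iff_subsingleton] at hnt
        have h3 : (⟨φ b, b, rfl⟩ : φ.range) = 1 := Subsingleton.elim _ _
        have h4 : φ b = 1 := congrArg Subtype.val h3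
        rw [h4, MulAut.one_apply]

/-- `O_2(C(w))` as a subgroup of `G` -/
theorem core_bot_iff (w : G) : pCore 2 ↥(centralizer ({w} : Set G)) = ⊥ ↔
    (pCore 2 ↥(centralizer ({w} : Set G))).map (centralizer ({w} : Set G)).subtype = ⊥ := by
  constructor
  · intro h
    rw [h, Subgroup.map_bot]
  · intro h
    exact (Subgroup.map_eq_bot_iff_of_injective _ (Subgroup.subtype_injective _)).1 h

theorem normalizes (w : G) : centralizer ({w} : Set G) ≤
    normalizer (((pCore 2 ↥(centralizer ({w} : Set G))).map (centralizer ({w} : Set G)).subtype : Subgroup G) : Set G) := by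
  have key : ∀ g ∈ centralizer ({w} : Set G), ∀ x ∈ (pCore 2 ↥(centralizer ({w} : Set G))).map
      (centralizer ({w} : Set G)).subtype, g * x * g⁻¹ ∈ (pCore 2 ↥(centralizer ({w} : Set G))).map
      (centralizer ({w} : Set G)).subtype := by
    rintro g hg _ ⟨x, hx, rfl⟩
    exact ⟨(⟨g, hg⟩ * x * ⟨g, hg⟩⁻¹ :), (Lib.Cores.pCore_normal (G := ↥(centralizer ({w} : Set G))) 2).conj_mem _ hx _, rfl⟩
  intro g hg
  rw [mem_normalizer_iff]
  intro x
  refine ⟨key g hg x, fun h => ?_⟩
  have h1 := key g⁻¹ (inv_mem hg) _ h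
  have h2 : g⁻¹ * (g * x * g⁻¹) * g⁻¹⁻¹ = x := by group
  rwa [h2] at h1

theorem isPGroup_core (w : G) :
    IsPGroup 2 ((pCore 2 ↥(centralizer ({w} : Set G))).map (centralizer ({w} : Set G)).subtype : Subgroup G) :=
  (Lib.Cores.pCore_isPGroup (G := ↥(centralizer ({w} : Set G))) 2).map _

/-- the group of order `p ^ 3` -/
theorem card_cube {a b c : G} (hac : a * c = c * a) (hbc : b * c = c * b) (hab : a * b = c * (b * a)) (ha : a ^ p = 1)
    (hb : b ^ p = 1) (hc : c ^ p = 1) (hc1 : c ≠ 1) : p ^ 3 ∣ Nat.card (cube hac hbc hab) := by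
  have hP := isPGroup_cube hac hbc hab ha hb hc
  obtain ⟨n, hn⟩ := IsPGroup.iff_card.1 hP
  have hncomm : ¬ ∀ u v : ↥(cube hac hbc hab), u * v = v * u := by
    intro h
    have hma : a ∈ cube hac hbc hab := ⟨1, 0, 0, by simp⟩
    have hmb : b ∈ cube hac hbc hab := ⟨0, 1, 0, by simp⟩
    have h4 := congrArg Subtype.val (h ⟨a, hma⟩ ⟨b, hmb⟩)
    have h5 : a * b = b * a := h4
    rw [hab] at h5
    exact hc1 (mul_eq_right.1 h5)
  have hn3 : 3 ≤ n := by
    by_contra h4
    have h5 : n ≤ 2 := by omega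
    apply hncomm
    interval_cases n
    · intro u v
      have h6 : Subsingleton ↥(cube hac hbc hab) := by
        rw [pow_zero] at hn
        exact (Nat.card_eq_one_iff_unique.1 hn).1
      exact Subsingleton.elim _ _
    · rw [pow_one] at hn
      have h6 := isCyclic_of_prime_card hn
      intro u v
      let _ := IsCyclic.commGroup (α := ↥(cube hac hbc hab))
      exact mul_comm u v
    · intro u v
      let _ := IsPGroup.commGroupOfCardEqPrimeSq hn
      exact mul_comm u v
  rw [hn]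
  exact pow_dvd_pow p hn3

/-- **`O_2(C(c)) = 1`** -/
theorem core_of_cube (hp2 : p ≠ 2) (hinv : ∀ t : G, orderOf t = 2 → ¬ p ^ 2 ∣ Nat.card ↥(centralizer ({t} : Set G)))
    {a b c : G} (hac : a * c = c * a) (hbc : b * c = c * b) (hab : a * b = c * (b * a)) (ha : a ^ p = 1)
    (hb : b ^ p = 1) (hc : c ^ p = 1) (hc1 : c ≠ 1) : pCore 2 ↥(centralizer ({c} : Set G)) = ⊥ := by
  rw [core_bot_iff]
  by_contra hT1
  have hPC : cube hac hbc hab ≤ centralizer ({c} : Set G) := by
    rintro _ ⟨i, j, k, rfl⟩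
    rw [mem_centralizer_singleton_iff]
    have h1 : Commute a c := hac
    have h2 : Commute b c := hbc
    exact (((h1.zpow_left i).mul_left (h2.zpow_left j)).mul_left ((Commute.refl c).zpow_left k)).eq
  set T := (pCore 2 ↥(centralizer ({c} : Set G))).map (centralizer ({c} : Set G)).subtype with hT
  have hcT : ∀ (k : ℤ) (t : G), t ∈ T → c ^ k * t = t * c ^ k := by
    rintro k _ ⟨t, -, rfl⟩
    have h1 : Commute c (t : G) := (mem_centralizer_singleton_iff.1 t.2).symm
    exact (h1.zpow_left k).eq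
  have g1 : ∀ x ∈ cube hac hbc hab, ∀ y ∈ cube hac hbc hab, ∀ t ∈ T,
      (x * y) * t * (x * y)⁻¹ = (y * x) * t * (y * x)⁻¹ := by
    rintro x ⟨i, j, k, rfl⟩ y ⟨i', j', k', rfl⟩ t ht
    rw [form_mul hac hbc hab, form_mul hac hbc hab]
    have e : a ^ (i + i') * b ^ (j + j') * c ^ (k + k' - j * i') =
        (a ^ (i' + i) * b ^ (j' + j) * c ^ (k' + k - j' * i)) * c ^ (j' * i - j * i') := by
      rw [mul_assoc _ (c ^ _) (c ^ _), ← zpow_add, add_comm i' i, add_comm j' j]
      congr 2
      ring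
    rw [e]
    set u := a ^ (i' + i) * b ^ (j' + j) * c ^ (k' + k - j' * i)
    have h1 := hcT (j' * i - j * i') t ht
    set d := c ^ (j' * i - j * i')
    calc u * d * t * (u * d)⁻¹ = u * (d * t) * d⁻¹ * u⁻¹ := by group
      _ = u * (t * d) * d⁻¹ * u⁻¹ := by rw [h1]
      _ = u * t * u⁻¹ := by group
  have g2 : ∀ x ∈ cube hac hbc hab, ∀ t ∈ T, x ^ p * t * (x ^ p)⁻¹ = t := by
    rintro x ⟨i, j, k, rfl⟩ t ht
    obtain ⟨k', hk'⟩ := form_pow hac hbc hab i j k p
    have ea : a ^ (i * (p : ℤ)) = 1 := by rw [mul_comm, zpow_mul, zpow_natCast, ha, one_zpow]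
    have eb : b ^ (j * (p : ℤ)) = 1 := by rw [mul_comm, zpow_mul, zpow_natCast, hb, one_zpow]
    rw [hk', ea, eb, one_mul, one_mul, hcT k' t ht, mul_inv_cancel_right]
  obtain ⟨B, hBP, hB, t, ht, hto, hBt⟩ := exists_big hp2 (P := cube hac hbc hab) (isPGroup_core c) hT1
    (hPC.trans (normalizes c)) g1 g2
  have h1 := (card_cube hac hbc hab ha hb hc hc1).trans hB
  have h2 : p ^ 2 ∣ Nat.card B := by
    have h3 : p * p ^ 2 ∣ p * Nat.card B := by
      have : p * p ^ 2 = p ^ 3 := by ring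
      rw [this]
      exact h1
    exact Nat.dvd_of_mul_dvd_mul_left hp.out.pos h3
  exact hinv t hto (h2.trans (card_dvd_of_le hBt))

/-- **`O_2(C(w)) = 1`** for small centralizers -/
theorem core_of_small (hinv : ∀ t : G, orderOf t = 2 → ¬ p ^ 2 ∣ Nat.card ↥(centralizer ({t} : Set G))) {w : G}
    (hp2 : p ≠ 2) (hw : p ^ 2 ∣ Nat.card ↥(centralizer ({w} : Set G)))
    (hs : ∀ k, 1 ≤ k → 2 ^ k * p ^ 2 ∣ Nat.card ↥(centralizer ({w} : Set G)) → ¬ 2 ^ k ≡ 1 [MOD p]) :
    pCore 2 ↥(centralizer ({w} : Set G)) = ⊥ := by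
  by_contra hT1
  have h2 : Fact (Nat.Prime 2) := ⟨Nat.prime_two⟩
  set C := centralizer ({w} : Set G) with hC
  have hTp : IsPGroup 2 ↥(pCore 2 ↥C) := Lib.Cores.pCore_isPGroup (G := ↥C) 2
  have hTn : (pCore 2 ↥C).Normal := Lib.Cores.pCore_normal (G := ↥C) 2
  obtain ⟨P⟩ : Nonempty (Sylow p ↥C) := inferInstance
  obtain ⟨k, hk⟩ := IsPGroup.iff_card.1 hTp
  have hk1 : 1 ≤ k := by
    by_contra hcon
    have h0 : k = 0 := by omega
    rw [h0, pow_zero] at hk
    exact hT1 (Subgroup.card_eq_one.1 hk)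
  have hcop : Nat.Coprime (2 ^ k) (p ^ 2) :=
    Nat.Coprime.pow _ _ ((Nat.coprime_primes Nat.prime_two hp.out).2 (Ne.symm hp2))
  have hd : 2 ^ k * p ^ 2 ∣ Nat.card ↥C := by
    refine hcop.mul_dvd_of_dvd_of_dvd ?_ hw
    rw [← hk]
    exact card_subgroup_dvd_card _
  have hne := hs k hk1 hd
  -- the action of `P`
  let act : MulAction P (pCore 2 ↥C) := MulAction.compHom _ ((MulAut.conjNormal (H := pCore 2 ↥C)).comp P.1.subtype)
  have hsm : ∀ (x : P) (t : pCore 2 ↥C), ((x • t : pCore 2 ↥C) : ↥C) = x * t * (x : ↥C)⁻¹ := fun x t => rfl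
  have h3 := P.2.card_modEq_card_fixedPoints (pCore 2 ↥C)
  rw [hk] at h3
  have h4 : Nontrivial (MulAction.fixedPoints P (pCore 2 ↥C)) := by
    by_contra hcon
    rw [not_nontrivial_iff_subsingleton] at hcon
    apply hne
    have h5 : Nat.card (MulAction.fixedPoints P (pCore 2 ↥C)) = 1 := by
      have h6 : Nonempty (MulAction.fixedPoints P (pCore 2 ↥C)) := ⟨⟨1, fun x => by
        apply Subtype.ext
        rw [hsm]
        simp⟩⟩
      exact Nat.card_eq_one_iff_unique.2 ⟨hcon, h6⟩
    rw [h5] at h3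
    exact h3
  have h1m : (1 : pCore 2 ↥C) ∈ MulAction.fixedPoints P (pCore 2 ↥C) := fun x => by
    apply Subtype.ext
    rw [hsm]
    simp
  obtain ⟨⟨t, ht⟩, ht1⟩ := exists_ne (⟨1, h1m⟩ : MulAction.fixedPoints P (pCore 2 ↥C))
  have ht1' : ((t : ↥C) : G) ≠ 1 := by
    intro h
    apply ht1
    apply Subtype.ext
    apply Subtype.ext
    exact Subtype.ext h
  have h5 : IsPGroup 2 (zpowers ((t : ↥C) : G)) := by
    have h6 : IsPGroup 2 ((pCore 2 ↥C).map C.subtype) := hTp.map _
    exact h6.to_le (zpowers_le.2 ⟨t, t.2, rfl⟩)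
  obtain ⟨s, ⟨j, hj⟩, hs⟩ := exists_invol h5 (by rw [Ne, zpowers_eq_bot]; exact ht1')
  have hj' : ((t : ↥C) : G) ^ j = s := hj
  apply hinv s hs
  have h6 : ((P : Subgroup ↥C).map C.subtype) ≤ centralizer ({s} : Set G) := by
    rintro _ ⟨x, hx, rfl⟩
    rw [mem_centralizer_singleton_iff, ← hj']
    have h7 := congrArg (fun y : pCore 2 ↥C => ((y : ↥C) : G)) (ht ⟨x, hx⟩)
    have h8 : (x : G) * ((t : ↥C) : G) * (x : G)⁻¹ = ((t : ↥C) : G) := h7
    have h9 : Commute (x : G) ((t : ↥C) : G) := mul_inv_eq_iff_eq_mul.1 h8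
    exact (h9.zpow_right j).eq
  refine dvd_trans ?_ (card_dvd_of_le h6)
  rw [Subgroup.card_map_of_injective C.subtype_injective]
  exact P.pow_dvd_card_of_pow_dvd_card hw

end

/-- conjugate cyclic subgroups -/
theorem core_of_zpowers {G : Type*} [Group G] {x y g : G} (h : zpowers (g * x * g⁻¹) = zpowers y)
    (hO : pCore 2 ↥(centralizer ({y} : Set G)) = ⊥) : pCore 2 ↥(centralizer ({x} : Set G)) = ⊥ := by
  have h1 : centralizer ({g * x * g⁻¹} : Set G) = centralizer ({y} : Set G) := by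
    rw [CpAutRuFive.centralizer_zpowers, h, ← CpAutRuFive.centralizer_zpowers]
  have h2 : pCore 2 ↥(centralizer ({g * x * g⁻¹} : Set G)) = ⊥ := by rw [h1]; exact hO
  exact H509.Weak.pCore_equiv (H509.Weak.centEquiv (MulAut.conj g) x).symm h2

end Cfsg.Agent.H191.WeakTool
end

-- part: H451/Weak/MSeven
section
set_option linter.all false
open scoped Cfsg.Agent.FastGrp

/-!
# S4095 at the prime 2: `O_2(C(x)) = 1` for `x` of order 7 in the Monster (helper451)

* `core_of_XX` : the case of a simple group `C(x)/⟨x⟩`;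
* `core_seven`.
-/

set_option autoImplicit false
set_option maxRecDepth 100000

namespace Cfsg.Agent.H451.Weak.M

open Cfsg Cfsg.Agent.MonsterU Cfsg.Agent.LThreeMB
open Cfsg.Agent.MonsterU.Lam2 Cfsg.Agent.MonsterU.TwoCls
open Cfsg.Agent.BpTab Cfsg.Agent.BpSpor.MBigModel Cfsg.Agent.BpSpor.MBig
open Cfsg.Agent.MonsterX Cfsg.Agent.MonsterX.MainBasic Cfsg.Agent.MonsterX.MainSimple Cfsg.Agent.MonsterX.Model
open Cfsg.Agent.MonsterX.MainPack
open Cfsg.Spor (Co1)
open Subgroup (centralizer zpowers mem_centralizer_singleton_iff)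

universe u

/-- `O_2(C(x)) = 1` if `x` is of odd order and `C(x)/⟨x⟩` is simple, of order not a power of 2 -/
theorem core_of_XX {G : Type u} [Group G] [Finite G] {x : G} (hx : Odd (orderOf x)) (hs : IsSimpleGroup (XX x))
    {q : ℕ} (hq : q.Prime) (hq2 : q ≠ 2) (hd : q ∣ Nat.card (XX x)) : pCore 2 ↥(centralizer ({x} : Set G)) = ⊥ := by
  have h2 : Fact (Nat.Prime 2) := ⟨Nat.prime_two⟩
  set R := pCore 2 ↥(centralizer ({x} : Set G)) with hR
  have hRn : R.Normal := Lib.Cores.pCore_normal 2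
  have hRp : IsPGroup 2 R := Lib.Cores.pCore_isPGroup 2
  have h1 : (R.map (QuotientGroup.mk' (Zx x))).Normal := hRn.map _ (QuotientGroup.mk'_surjective _)
  rcases h1.eq_bot_or_eq_top with h | h
  · have hle : R ≤ Zx x := by
      intro r hr
      have h3 := Subgroup.mem_map_of_mem (QuotientGroup.mk' (Zx x)) hr
      rw [h, Subgroup.mem_bot] at h3
      exact (QuotientGroup.eq_one_iff r).1 h3
    obtain ⟨k, hk⟩ := IsPGroup.iff_card.1 hRp
    have h3 : Nat.card R ∣ orderOf x := by
      refine (Subgroup.card_dvd_of_le hle).trans (dvd_of_eq ?_)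
      rw [Zx, Nat.card_zpowers, self, Subgroup.orderOf_mk]
    have h4 : k = 0 := by
      by_contra hk0
      rw [hk] at h3
      exact (Nat.not_even_iff_odd.2 hx) (even_iff_two_dvd.2 ((dvd_pow_self 2 hk0).trans h3))
    rw [h4, pow_zero] at hk
    exact Subgroup.card_eq_one.1 hk
  · exfalso
    have h3 : IsPGroup 2 (⊤ : Subgroup (XX x)) := by
      rw [← h]
      exact hRp.map _
    obtain ⟨k, hk⟩ := IsPGroup.iff_card.1 h3
    rw [Subgroup.card_top] at hk
    rw [hk] at hd
    exact hq2 ((Nat.prime_dvd_prime_iff_eq hq Nat.prime_two).1 (hq.dvd_of_dvd_pow hd))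

/-- reduction to elements of `C(z)` -/
theorem core_of_ev {p : ℕ} {x : MG} (hx : orderOf x = p)
    (h : ∃ g : MG, (g * zz * g⁻¹) * x = x * (g * zz * g⁻¹))
    (hz : ∀ x' : centralizer ({zz} : Set MG), orderOf x' = p → pCore 2 ↥(centralizer ({(x' : MG)} : Set MG)) = ⊥) :
    pCore 2 ↥(centralizer ({x} : Set MG)) = ⊥ := by
  obtain ⟨g, hg⟩ := h
  have h1 : (g⁻¹ * x * g) * zz = zz * (g⁻¹ * x * g) := by
    calc (g⁻¹ * x * g) * zz = g⁻¹ * (x * (g * zz * g⁻¹)) * g := by group
      _ = g⁻¹ * ((g * zz * g⁻¹) * x) * g := by rw [hg]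
      _ = zz * (g⁻¹ * x * g) := by group
  have h2 : MulAut.conj g (g⁻¹ * x * g) = x := by rw [MulAut.conj_apply]; group
  have h3 := hz ⟨g⁻¹ * x * g, mem_centralizer_singleton_iff.2 h1⟩ (by
    rw [Subgroup.orderOf_mk, ← hx, ← h2, MulEquiv.orderOf_eq, h2])
  have h4 := H509.Weak.pCore_equiv (H509.Weak.centEquiv (MulAut.conj g) (g⁻¹ * x * g)) h3
  rwa [h2] at h4

theorem core_seven_zero {x : centralizer ({zz} : Set MG)} (hx : orderOf x = 7) (hfr : fr (pi x) = 1) :
    pCore 2 ↥(centralizer ({(x : MG)} : Set MG)) = ⊥ := by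
  have hfin := finite
  have h := chart
  have hx7 : x ^ 7 = 1 := by rw [← hx, pow_orderOf_eq_one]
  refine core_of_unique (z := zD x) (MFive.orderOf_zD h x) ?_ ?_
  · intro v _ hv2 hvz
    have hvv : v * v = 1 := by rw [← pow_two, ← hv2, pow_orderOf_eq_one]
    refine (BpRankZero.Seven.only_zD KDone.lft MFive.Row.hc hx7 hfr v hvv hvz).resolve_left ?_
    rintro rfl
    rw [orderOf_one] at hv2
    norm_num at hv2
  · by_contra hcon
    push Not at hcon
    obtain ⟨r, hr, hr6⟩ := BpRankZero.MRow.exists_six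
    have h7 := CpAutMSeven.ZeroComps.cube_zero KDone.lft MFive.Row.hc hx hfr hr
      (by rw [hr6]; norm_num) fun y hy hfy => by
        have h1 : fr (KChart.pi MFive.Row.hc y) = 2 ^ 6 :=
          (CpAutMSeven.Ranks.hranks _ (MFive.orderOf_pi h (by norm_num) (by decide) hy)).resolve_left hfy
        rw [BpRankZero.Seven.card_cent, Subgroup.orderOf_coe, hy, show 7 ^ 4 = 7 ^ 3 * 7 by norm_num]
        refine Nat.mul_dvd_mul_right ?_ 7
        rw [(BpRankZero.MRow.he_facts (CpAutMSeven.ZeroComps.heSix y hy h1)).2]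
        norm_num
    refine BpRankZero.Seven.not_dvd_cz h (h7.trans (Subgroup.card_dvd_of_le ?_))
    intro g hg
    rw [mem_centralizer_singleton_iff]
    exact congrArg Subtype.val (hcon ⟨g, hg⟩)

/-- **Order 7.** -/
theorem core_seven {x : MG} (hx : orderOf x = 7) : pCore 2 ↥(centralizer ({x} : Set MG)) = ⊥ := by
  have hfin := finite
  by_cases ho : Odd (Nat.card ↥(centralizer ({x} : Set MG)))
  · exact core_of_odd ho
  refine core_of_ev hx (CpAutMSeven.Hex.hex hx ho) fun x' hx' => ?_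
  rcases CpAutMSeven.Ranks.hranks _ (MFive.orderOf_pi chart (by norm_num) (by decide) hx') with h | h
  · exact core_seven_zero hx' h
  · obtain ⟨h1, h2⟩ := BpRankZero.MRow.he_facts (CpAutMSeven.ZeroComps.heSix x' hx' h)
    exact core_of_XX (by rw [Subgroup.orderOf_coe, hx']; decide) h1 (q := 7) (by norm_num) (by norm_num)
      (by rw [h2]; norm_num)

end Cfsg.Agent.H451.Weak.M

private theorem dce_a7a09cd51f3e : _root_.True := by
  try have : _root_.True := by simp only [_root_.Cfsg.Agent.LThreeMB.self.eq_1]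
  exact _root_.True.intro
end

-- part: H191/WeakNN
section
set_option linter.all false
open scoped Cfsg.Agent.FastGrp

/-!
# Classes of elements of order five that are not nilpotent modulo two (helper191, for S4095)

`exists_nn` : the element of `H52.FourTool.loc_of`: a subgroup `V` with `C(V)/V` a group with split (B,N)-pair;
`FactB.of_inner` : `FactB` from one such element when the automorphisms are inner.
-/

set_option autoImplicit false

namespace Cfsg.Agent.H191.WeakNN

open Cfsg Subgroup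
open Cfsg.Agent.Characters.Core
open Cfsg.Agent.Blocks Cfsg.Agent.Blocks.LocalRing
open Cfsg.Agent.H652.Four Cfsg.Agent.H52.FourTool

universe u v

theorem exists_nn {G : Type u} [Group G] [Finite G] {V : Subgroup G} (hV : IsPGroup 2 V)
    (hVC : V ≤ centralizer (V : Set G))
    {H : Type v} [Group H] [Finite H] (φ : centralizer (V : Set G) →* H)
    (hφ : Function.Surjective φ) (hker : ∀ g, φ g = 1 → (g : G) ∈ V)
    (hs : FixBN.HasSplit 2 H) (h5 : 5 ∣ Nat.card H) (h25 : ¬ 5 ^ 2 ∣ Nat.card H) {j : ℕ} (hj : ¬ 2 ∣ j)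
    (hj5 : (64 * j) % 5 = 4)
    (hy : ∀ y : H, orderOf y = 5 → (centralizer ({y} : Set H)).index = 64 * j ∧
      Nat.card (centralizer ({y} : Set H)) ≤ 16 ∧ ¬ 2 ∣ Nat.card (centralizer ({y} : Set H))) :
    ∃ x : G, orderOf x = 5 ∧ x ∈ centralizer (V : Set G) ∧ ∀ M : Ideal AlgInt, IsPModular 2 M → NN M (cl x) := by
  classical
  have hF5 : Fact (Nat.Prime 5) := ⟨by norm_num⟩
  have hkc : φ.ker ≤ center _ := by
    intro g hg
    have hgV := hker g (MonoidHom.mem_ker.1 hg)
    rw [Subgroup.mem_center_iff]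
    intro h
    exact Subtype.ext (mem_centralizer_iff.1 h.2 g hgV).symm
  have hkp : IsPGroup 2 φ.ker := by
    rintro ⟨g, hg⟩
    obtain ⟨k, hk⟩ := hV ⟨g, hker g (MonoidHom.mem_ker.1 hg)⟩
    refine ⟨k, ?_⟩
    apply Subtype.ext
    apply Subtype.ext
    simpa using congrArg Subtype.val hk
  obtain ⟨y, hyo⟩ := exists_prime_orderOf_dvd_card' 5 h5
  obtain ⟨x0, hx0⟩ := hφ y
  have h1 : x0 ^ 5 ∈ φ.ker := by
    rw [MonoidHom.mem_ker, map_pow, hx0, ← hyo, pow_orderOf_eq_one]
  obtain ⟨k, hk⟩ := hkp ⟨_, h1⟩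
  have hk' : (x0 ^ 5) ^ 2 ^ k = 1 := by simpa using congrArg Subtype.val hk
  set x := x0 ^ 2 ^ k with hxdef
  have hx5 : x ^ 5 = 1 := by
    rw [hxdef, ← pow_mul, mul_comm, pow_mul]
    exact hk'
  have hφx : orderOf (φ x) = 5 := by
    rw [hxdef, map_pow, hx0, Nat.Coprime.orderOf_pow]
    · exact hyo
    · rw [hyo]
      exact Nat.Coprime.pow_right k (by norm_num)
  have hxo : orderOf x = 5 := by
    refine orderOf_eq_prime hx5 ?_
    intro h
    rw [h, map_one, orderOf_one] at hφx
    omega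
  obtain ⟨hi, hc, hc2⟩ := hy _ hφx
  have he := relIndex_eq_four hφx h25 (by rw [hi]; exact hj5)
  have hP : Nat.card (zpowers (φ x)) = 5 := by rw [Nat.card_zpowers, hφx]
  have hφx1 : φ x ≠ 1 := by
    intro h
    rw [h, orderOf_one] at hφx
    omega
  refine ⟨(x : G), by rw [Subgroup.orderOf_coe]; exact hxo, x.2, fun M hM => ?_⟩
  exact nn_lift hV hVC φ hφ hkc hkp (by norm_num : Nat.Prime 5) (by norm_num) hxo
    (fun a b ha hb => isConj_of_orderOf (p := 5) hP h25 he ha hb) hM
    (nn_of_hasSplit hs hP he (mem_zpowers _) hφx1 hi hj hc hc2 hM)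

end Cfsg.Agent.H191.WeakNN
end

-- part: H191/WeakRu
section
prune_inst 0x20100400052210000000000020000420210001000020000020400000080009410000090020101110010aaaa0400c0040010000c9420800000a00820000040000040b4202927c0d00110000404804000000000000000000000000000000000000000000000
set_option linter.all false
open scoped Cfsg.Agent.FastGrp

/-!
# S4095 at the prime 2: the row of the Rudvalis group (helper191)

* `three`, `five` : `O_2(C(w)) = 1` for the elements `w` of order 3 or 5;
* `factA`, `factB`, `row`.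
-/

set_option autoImplicit false
set_option maxRecDepth 100000
set_option exponentiation.threshold 5000

namespace Cfsg.Agent.H191.WeakRu

open Subgroup Cfsg Cfsg.Agent.SporadicB Cfsg.Agent.SporadicB.RuOrder Cfsg.Agent.RuD.Letters
open Cfsg.Agent.SporRec.TCUpperCert
open Cfsg.Agent.H978.RadRu (rep wprod_rep chkEqW eq_of_chkEqW ne_one_of)
open Cfsg.Agent.H191.WeakTool Cfsg.Agent.H509.Weak Cfsg.Agent.H516
open Cfsg.Agent.Characters.Core Cfsg.Agent.Blocks Cfsg.Agent.Blocks.LocalRing
open Cfsg.Agent.H652.Four (NN cl)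

universe u

theorem finite_H : Finite RuOrder.H := CpAutRuFive.finite_H

theorem hinv (p : ℕ) (hp : p = 3 ∨ p = 5) (t : RuOrder.H) (ht : orderOf t = 2) :
    ¬ p ^ 2 ∣ Nat.card ↥(centralizer ({t} : Set RuOrder.H)) := by
  rcases H805.NilSp.cent_two_Ru ht with h | h <;> rw [h] <;> rcases hp with rfl | rfl <;> norm_num

/-- elements of order `p` commuting with the same involution -/
theorem core_of_comm {p : ℕ} (hp : p = 3 ∨ p = 5) {u x y : RuOrder.H} (hu : orderOf u = 2) (hx : orderOf x = p)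
    (hy : orderOf y = p) (hxu : x * u = u * x) (hyu : y * u = u * y)
    (hO : pCore 2 ↥(centralizer ({y} : Set RuOrder.H)) = ⊥) : pCore 2 ↥(centralizer ({x} : Set RuOrder.H)) = ⊥ := by
  have := finite_H
  have hpp : p.Prime := by
    rcases hp with rfl | rfl
    · norm_num
    · norm_num
  obtain ⟨g, hg⟩ := CpAutRuFive.exists_conj_zpowers hpp (hinv p hp u hu)
    (x := (⟨x, mem_centralizer_singleton_iff.2 hxu⟩ : ↥(centralizer ({u} : Set RuOrder.H))))
    (y := ⟨y, mem_centralizer_singleton_iff.2 hyu⟩) (by rw [← hx, ← Subgroup.orderOf_coe])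
    (by rw [← hy, ← Subgroup.orderOf_coe])
  have h1 := congrArg (Subgroup.map (centralizer ({u} : Set RuOrder.H)).subtype) hg
  rw [MonoidHom.map_zpowers, MonoidHom.map_zpowers] at h1
  have h2 : zpowers ((g : RuOrder.H) * x * (g : RuOrder.H)⁻¹) = zpowers y := h1
  exact core_of_zpowers h2 hO

/-- the involution in `O_2(C(x))` -/
theorem exists_u {x : RuOrder.H} (h : pCore 2 ↥(centralizer ({x} : Set RuOrder.H)) ≠ ⊥) :
    ∃ u : RuOrder.H, orderOf u = 2 ∧ x * u = u * x := by
  have := finite_H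
  obtain ⟨u, ⟨u', -, hu'⟩, huo⟩ := exists_invol (isPGroup_core x) (fun h' => h ((core_bot_iff x).2 h'))
  refine ⟨u, huo, ?_⟩
  rw [← hu']
  exact (mem_centralizer_singleton_iff.1 u'.2).symm

theorem chks : chkEqW (H978.RadRu.wa ++ H978.RadRu.wc) (H978.RadRu.wc ++ H978.RadRu.wa) = true ∧
    chkEqW (H978.RadRu.wb ++ H978.RadRu.wc) (H978.RadRu.wc ++ H978.RadRu.wb) = true ∧
    chkEqW (H978.RadRu.wa ++ H978.RadRu.wb) (H978.RadRu.wc ++ (H978.RadRu.wb ++ H978.RadRu.wa)) = true ∧
    chkEqW (H51.Rad3.Ru.wa ++ H51.Rad3.Ru.wc) (H51.Rad3.Ru.wc ++ H51.Rad3.Ru.wa) = true ∧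
    chkEqW (H51.Rad3.Ru.wb ++ H51.Rad3.Ru.wc) (H51.Rad3.Ru.wc ++ H51.Rad3.Ru.wb) = true ∧
    chkEqW (H51.Rad3.Ru.wa ++ H51.Rad3.Ru.wb) (H51.Rad3.Ru.wc ++ (H51.Rad3.Ru.wb ++ H51.Rad3.Ru.wa)) = true := by
  delta chkEqW
  rewrite [Cfsg.Agent.KFacts.RuF.evalK_fun]
  decide +kernel

/-! ### order 5 -/

theorem core_A : pCore 2 ↥(centralizer ({wprod ml CpAutRuFive.Cert.wA} : Set RuOrder.H)) = ⊥ := by
  have := finite_H
  have hf5 : Fact (Nat.Prime 5) := ⟨by norm_num⟩
  have hr := rel_of_chk H978.RadRu.chk_rels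
  have r1 := hr (rep 5 H978.RadRu.wa) (by simp)
  have r2 := hr (rep 5 H978.RadRu.wb) (by simp)
  have r3 := hr (rep 5 H978.RadRu.wc) (by simp)
  have e1 : wprod ml (H978.RadRu.wa ++ H978.RadRu.wc) = wprod ml (H978.RadRu.wc ++ H978.RadRu.wa) :=
    eq_of_chkEqW chks.1
  have e2 : wprod ml (H978.RadRu.wb ++ H978.RadRu.wc) = wprod ml (H978.RadRu.wc ++ H978.RadRu.wb) :=
    eq_of_chkEqW chks.2.1
  have e3 : wprod ml (H978.RadRu.wa ++ H978.RadRu.wb) =
      wprod ml (H978.RadRu.wc ++ (H978.RadRu.wb ++ H978.RadRu.wa)) := eq_of_chkEqW chks.2.2.1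
  simp only [wprod_rep, wprod_append] at r1 r2 r3 e1 e2 e3
  exact core_of_cube (p := 5) (by norm_num) (hinv 5 (Or.inr rfl)) e1 e2 e3 r1 r2 r3
    (ne_one_of (b := 29) (by norm_num) (by decide +kernel))

theorem core_B : pCore 2 ↥(centralizer ({wprod ml CpAutRuFive.Cert.wB} : Set RuOrder.H)) = ⊥ := by
  have := finite_H
  have hf5 : Fact (Nat.Prime 5) := ⟨by norm_num⟩
  refine core_of_small (p := 5) (hinv 5 (Or.inr rfl)) (by norm_num) ?_ ?_
  · refine H58.Cop.sq_dvd_cent ?_ CpAutRuFive.orderB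
    rw [card_H]
    norm_num
  · intro k hk hd
    have h1 := (Nat.le_of_dvd Nat.card_pos hd).trans CpAutRuFive.cardB
    have h2 : 2 ^ k ≤ 12 := by omega
    have h3 : k < 4 := by
      by_contra hcon
      have h4 : 2 ^ 4 ≤ 2 ^ k := Nat.pow_le_pow_right (by norm_num) (by omega)
      omega
    interval_cases k <;> decide

theorem five {x : RuOrder.H} (hx : orderOf x = 5) : pCore 2 ↥(centralizer ({x} : Set RuOrder.H)) = ⊥ := by
  by_contra hne
  obtain ⟨u, hu, hxu⟩ := exists_u hne
  apply hne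
  obtain ⟨C, hz, hv⟩ := CpAutRuFive.exists_C
  have huu : u * u = 1 := by rw [← pow_two, ← hu, pow_orderOf_eq_one]
  have hu1 : u ≠ 1 := by
    rintro rfl
    rw [orderOf_one] at hu
    norm_num at hu
  have key : ∀ g a y : RuOrder.H, g * a * g⁻¹ = u → orderOf y = 5 → y * a = a * y →
      pCore 2 ↥(centralizer ({y} : Set RuOrder.H)) = ⊥ → pCore 2 ↥(centralizer ({x} : Set RuOrder.H)) = ⊥ := by
    intro g a y hg hy hya hO
    have h1 : (g * y * g⁻¹) * u = u * (g * y * g⁻¹) := by
      rw [← hg]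
      calc g * y * g⁻¹ * (g * a * g⁻¹) = g * (y * a) * g⁻¹ := by group
        _ = g * (a * y) * g⁻¹ := by rw [hya]
        _ = _ := by group
    have h2 : orderOf (g * y * g⁻¹) = 5 := by
      rw [← hy]
      exact MulEquiv.orderOf_eq (MulAut.conj g) y
    exact core_of_comm (Or.inr rfl) hu hx h2 hxu h1 (pCore_equiv (centEquiv (MulAut.conj g) y) hO)
  rcases KFacts.Ru.InvC.invol_cases' C (a := (1, 0)) (by decide) huu hu1 with ⟨g, hg⟩ | ⟨g, hg⟩
  · exact key g _ _ hg CpAutRuFive.orderA (by rw [hz]; exact CpAutRuFive.commA) core_A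
  · exact key g _ _ hg CpAutRuFive.orderB (by rw [hv]; exact CpAutRuFive.commB) core_B

/-! ### order 3 -/

theorem core_C : pCore 2 ↥(centralizer ({wprod ml H51.Rad3.Ru.wc} : Set RuOrder.H)) = ⊥ := by
  have := finite_H
  have hf3 : Fact (Nat.Prime 3) := ⟨by norm_num⟩
  have hr := rel_of_chk H51.Rad3.Ru.chk_rels
  have r1 := hr (rep 3 H51.Rad3.Ru.wa) (by simp)
  have r2 := hr (rep 3 H51.Rad3.Ru.wb) (by simp)
  have r3 := hr (rep 3 H51.Rad3.Ru.wc) (by simp)
  have e1 : wprod ml (H51.Rad3.Ru.wa ++ H51.Rad3.Ru.wc) = wprod ml (H51.Rad3.Ru.wc ++ H51.Rad3.Ru.wa) :=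
    eq_of_chkEqW chks.2.2.2.1
  have e2 : wprod ml (H51.Rad3.Ru.wb ++ H51.Rad3.Ru.wc) = wprod ml (H51.Rad3.Ru.wc ++ H51.Rad3.Ru.wb) :=
    eq_of_chkEqW chks.2.2.2.2.1
  have e3 : wprod ml (H51.Rad3.Ru.wa ++ H51.Rad3.Ru.wb) =
      wprod ml (H51.Rad3.Ru.wc ++ (H51.Rad3.Ru.wb ++ H51.Rad3.Ru.wa)) := eq_of_chkEqW chks.2.2.2.2.2
  simp only [wprod_rep, wprod_append] at r1 r2 r3 e1 e2 e3
  exact core_of_cube (p := 3) (by norm_num) (hinv 3 (Or.inl rfl)) e1 e2 e3 r1 r2 r3
    (ne_one_of (b := 29) (by norm_num) (by decide +kernel))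

/-- the element `d` of order 3 commutes with `s²` and is conjugate to `t d` -/
theorem core_d : pCore 2 ↥(centralizer ({wprod ml [4]} : Set RuOrder.H)) = ⊥ := by
  have h1 : wprod ml ([4, 0, 8] ++ [4]) = wprod ml (H51.Rad3.Ru.wc ++ [4, 0, 8]) := eq_of_chkEqW (by decide +kernel)
  rw [wprod_append, wprod_append] at h1
  have h2 : (wprod ml [4, 0, 8] : RuOrder.H) * wprod ml [4] * (wprod ml [4, 0, 8])⁻¹ = wprod ml H51.Rad3.Ru.wc := by
    rw [mul_inv_eq_iff_eq_mul]
    exact h1
  refine core_of_zpowers (g := wprod ml [4, 0, 8]) (y := wprod ml H51.Rad3.Ru.wc) ?_ core_C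
  rw [h2]

theorem order_d : orderOf (wprod ml [4] : RuOrder.H) = 3 := by
  have : Fact (Nat.Prime 3) := ⟨by norm_num⟩
  refine orderOf_eq_prime ?_ (ne_one_of (b := 1) (by norm_num) (by decide +kernel))
  have h : wprod ml (rep 3 [4]) = (wprod ml [] : RuOrder.H) := eq_of_chkEqW (by decide +kernel)
  rw [wprod_rep, wprod_nil] at h
  exact h

theorem comm_d : (wprod ml [4] : RuOrder.H) * wprod ml [1, 1] = wprod ml [1, 1] * wprod ml [4] := by
  have h : wprod ml ([4] ++ [1, 1]) = (wprod ml ([1, 1] ++ [4]) : RuOrder.H) := eq_of_chkEqW (by decide +kernel)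
  rwa [wprod_append, wprod_append] at h

theorem three {x : RuOrder.H} (hx : orderOf x = 3) : pCore 2 ↥(centralizer ({x} : Set RuOrder.H)) = ⊥ := by
  have := finite_H
  by_contra hne
  obtain ⟨u, hu, hxu⟩ := exists_u hne
  apply hne
  obtain ⟨C, hz, hv⟩ := CpAutRuFive.exists_C
  have huu : u * u = 1 := by rw [← pow_two, ← hu, pow_orderOf_eq_one]
  have hu1 : u ≠ 1 := by
    rintro rfl
    rw [orderOf_one] at hu
    norm_num at hu
  rcases KFacts.Ru.InvC.invol_cases' C (a := (1, 0)) (by decide) huu hu1 with ⟨g, hg⟩ | ⟨g, hg⟩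
  · have h1 : (g * wprod ml [4] * g⁻¹) * u = u * (g * wprod ml [4] * g⁻¹) := by
      rw [← hg, hz]
      calc g * wprod ml [4] * g⁻¹ * (g * wprod ml [1, 1] * g⁻¹) = g * (wprod ml [4] * wprod ml [1, 1]) * g⁻¹ := by
            group
        _ = g * (wprod ml [1, 1] * wprod ml [4]) * g⁻¹ := by rw [comm_d]
        _ = _ := by group
    have h2 : orderOf (g * wprod ml [4] * g⁻¹) = 3 := by
      rw [← order_d]
      exact MulEquiv.orderOf_eq (MulAut.conj g) (wprod ml [4])
    exact core_of_comm (Or.inl rfl) hu hx h2 hxu h1 (pCore_equiv (centEquiv (MulAut.conj g) (wprod ml [4])) core_d)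
  · exfalso
    have h3 : Nat.card ↥(centralizer ({C.v (1, 0)} : Set RuOrder.H)) = 4 * 29120 := RuB.Local.card_cent_v (by decide)
    have h4 : g⁻¹ * x * g ∈ centralizer ({C.v (1, 0)} : Set RuOrder.H) := by
      rw [mem_centralizer_singleton_iff]
      rw [← hg] at hxu
      calc g⁻¹ * x * g * C.v (1, 0) = g⁻¹ * (x * (g * C.v (1, 0) * g⁻¹)) * g := by group
        _ = g⁻¹ * ((g * C.v (1, 0) * g⁻¹) * x) * g := by rw [hxu]
        _ = _ := by group
    have h5 := Subgroup.orderOf_dvd_natCard _ h4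
    have h6 : orderOf (g⁻¹ * x * g) = 3 := by
      rw [← hx]
      have := MulEquiv.orderOf_eq (MulAut.conj g⁻¹) x
      rw [MulAut.conj_apply, inv_inv] at this
      exact this
    rw [h6, h3] at h5
    norm_num at h5

/-! ### the facts -/

theorem factA_H : FactA RuOrder.H := by
  have := finite_H
  have hf5 : Fact (Nat.Prime 5) := ⟨by norm_num⟩
  obtain ⟨Q⟩ : Nonempty (Sylow 5 RuOrder.H) := inferInstance
  have hQ : Nat.card (Q : Subgroup RuOrder.H) = 125 := by
    rw [Q.card_eq_multiplicity, card_H]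
    have h1 : (145926144000 : ℕ) = 5 ^ 3 * 1167409152 := by norm_num
    rw [h1, Nat.factorization_mul (by norm_num) (by norm_num), Finsupp.add_apply,
      Nat.Prime.factorization_pow (by norm_num), Finsupp.single_eq_same,
      Nat.factorization_eq_zero_of_not_dvd (by norm_num)]
    norm_num
  refine ⟨Q, by rw [hQ]; decide, fun w hw hw2 => ?_⟩
  rw [hQ]
  have hd : orderOf w ∣ 2 ^ 14 * (3 ^ 3 * (5 ^ 3 * (7 * (13 * 29)))) := by
    have h1 := orderOf_dvd_natCard w
    rw [card_H] at h1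
    exact h1
  have pc : ∀ n k : ℕ, n.Prime → orderOf w ∣ n ^ k → orderOf w = n := fun n k hn h =>
    (Nat.prime_dvd_prime_iff_eq hw hn).1 (hw.dvd_of_dvd_pow h)
  rcases (Nat.Prime.dvd_mul hw).1 hd with h | hd
  · exact absurd (pc 2 14 Nat.prime_two h) hw2
  rcases (Nat.Prime.dvd_mul hw).1 hd with h | hd
  · exact Or.inl (three (pc 3 3 Nat.prime_three h))
  rcases (Nat.Prime.dvd_mul hw).1 hd with h | hd
  · exact Or.inl (five (pc 5 3 (by norm_num) h))
  right
  rcases (Nat.Prime.dvd_mul hw).1 hd with h | hd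
  · have := Nat.le_of_dvd (by norm_num) (H296.Fr.Ru.cent7 w ((Nat.prime_dvd_prime_iff_eq hw (by norm_num)).1 h))
    omega
  rcases (Nat.Prime.dvd_mul hw).1 hd with h | h
  · have := Nat.le_of_dvd (by norm_num) (H436.TwoRu.cent13 w ((Nat.prime_dvd_prime_iff_eq hw (by norm_num)).1 h))
    omega
  · have := Nat.le_of_dvd (by norm_num) (H436.TwoRu.cent29 w ((Nat.prime_dvd_prime_iff_eq hw (by norm_num)).1 h))
    omega

/-- transport -/
theorem core_equiv {L : Type*} [Group L] (e : L ≃* RuOrder.H) (w : L)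
    (h : pCore 2 ↥(centralizer ({e w} : Set RuOrder.H)) = ⊥) : pCore 2 ↥(centralizer ({w} : Set L)) = ⊥ := by
  have h1 : (centralizer ({w} : Set L)).map e.toMonoidHom = centralizer ({e w} : Set RuOrder.H) := by
    ext x
    constructor
    · rintro ⟨y, hy, rfl⟩
      rw [mem_centralizer_singleton_iff]
      change e y * e w = e w * e y
      rw [← map_mul, ← map_mul, mem_centralizer_singleton_iff.1 hy]
    · intro hx
      refine ⟨e.symm x, ?_, e.apply_symm_apply x⟩
      refine mem_centralizer_singleton_iff.2 ?_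
      apply e.injective
      rw [map_mul, map_mul, e.apply_symm_apply]
      exact mem_centralizer_singleton_iff.1 hx
  exact pCore_equiv ((e.subgroupMap (centralizer ({w} : Set L))).trans (MulEquiv.subgroupCongr h1)).symm h

theorem factA {L : Type u} [Group L] [Finite L] (h : Cfsg.Spor.IsoRu L) : FactA L := by
  have := finite_H
  obtain ⟨e⟩ := h
  let f : L ≃* RuOrder.H := e.trans RuLat.Main.equiv
  obtain ⟨Q, hQ, hall⟩ := factA_H
  have hc : Nat.card (Q.map f.symm.toMonoidHom) = Nat.card Q :=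
    Subgroup.card_map_of_injective (f := f.symm.toMonoidHom) f.symm.injective
  refine ⟨Q.map f.symm.toMonoidHom, by rw [hc]; exact hQ, fun w hw hw2 => ?_⟩
  have ho : orderOf (f w) = orderOf w := MulEquiv.orderOf_eq f w
  rcases hall (f w) (by rw [ho]; exact hw) (by rw [ho]; exact hw2) with h1 | h1
  · exact Or.inl (core_equiv f w h1)
  · right
    rw [hc, H296.Fr.card_cent_equiv f w]
    exact h1

/-- the class of elements of order five -/
theorem exists_y {L : Type u} [Group L] [Finite L] (h : Cfsg.Spor.IsoRu L) : ∃ x : L, orderOf x = 5 ∧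
    ∀ M : Ideal AlgInt, IsPModular 2 M → NN M (cl x) := by
  classical
  obtain ⟨C, hsz, hc⟩ := CTwoTab.Ru.exists_core_sz h
  let V : Subgroup L :=
    { carrier := Set.range C.v
      mul_mem' := by
        rintro _ _ ⟨a, rfl⟩ ⟨b, rfl⟩
        exact ⟨a + b, C.v_add a b⟩
      one_mem' := ⟨0, C.v_zero⟩
      inv_mem' := by
        rintro _ ⟨a, rfl⟩
        exact ⟨a, (C.v_inv a).symm⟩ }
  have hVmem : ∀ g, g ∈ V ↔ ∃ a, C.v a = g := fun g => Iff.rfl
  have hcV : Nat.card V = 4 := by
    have h1 : Nat.card V = Nat.card RuB.A4 :=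
      (Nat.card_congr (Equiv.ofInjective C.v (fun a b => C.v_inj))).symm
    rw [h1, Nat.card_eq_fintype_card]
    rfl
  have ha : ((1, 0) : RuB.A4) ≠ 0 := by decide
  have hVC : V ≤ centralizer (V : Set L) := by
    rintro _ ⟨a, rfl⟩
    rw [mem_centralizer_iff]
    rintro _ ⟨b, rfl⟩
    exact C.v_v_comm b a
  have hLC : ∀ l ∈ C.L, l ∈ centralizer (V : Set L) := by
    intro l hl
    rw [mem_centralizer_iff]
    rintro _ ⟨b, rfl⟩
    exact C.v_comm b l hl
  have key : ∀ g : centralizer (V : Set L), ∃ l : C.L, ∃ b, (g : L) = C.v b * l := by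
    intro g
    obtain ⟨b, l, hl, hg⟩ := C.cent _ ha g (mem_centralizer_iff.1 g.2 _ ⟨(1, 0), rfl⟩).symm
    exact ⟨⟨l, hl⟩, b, hg⟩
  choose f b hf using key
  have huniq : ∀ (b b' : RuB.A4) (l l' : C.L), C.v b * (l : L) = C.v b' * l' → l = l' := by
    intro b b' l l' h2
    exact Subtype.ext (C.vl_inj l.2 l'.2 h2).2
  have hmul : ∀ x y, f (x * y) = f x * f y := by
    intro x y
    refine huniq (b (x * y)) (b x + b y) _ _ ?_
    rw [← hf, C.v_add]
    change (x : L) * (y : L) = C.v (b x) * C.v (b y) * ((f x : L) * (f y : L))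
    rw [hf x, hf y]
    have h2 := C.v_comm (b y) (f x) (f x).2
    calc C.v (b x) * (f x : L) * (C.v (b y) * (f y : L)) =
        C.v (b x) * ((f x : L) * C.v (b y)) * (f y : L) := by group
      _ = C.v (b x) * (C.v (b y) * (f x : L)) * (f y : L) := by rw [h2]
      _ = _ := by group
  let φ : centralizer (V : Set L) →* C.L := MonoidHom.mk' f hmul
  have hc5 : ∀ y : C.L, orderOf y = 5 → Nat.card (centralizer ({y} : Set C.L)) = 5 :=
    fun y hy => H52.FourRu.card_centralizer_five hsz hc hy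
  have hfin : Finite C.L := inferInstance
  obtain ⟨x, hx, -, hN⟩ := WeakNN.exists_nn (V := V) (IsPGroup.of_card (n := 2) (by rw [hcV]; norm_num)) hVC φ
    (fun l => by
      refine ⟨⟨(l : L), hLC l l.2⟩, ?_⟩
      refine huniq (b ⟨(l : L), hLC l l.2⟩) 0 _ _ ?_
      rw [C.v_zero, one_mul]
      exact (hf ⟨(l : L), hLC l l.2⟩).symm)
    (fun g hg => by
      rw [hVmem]
      refine ⟨b g, ?_⟩
      have h1 := hf g
      have h2 : f g = 1 := hg
      rw [h2] at h1
      rw [h1, Subgroup.coe_one, mul_one])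
    (Omega.ML.LieRow.SzSplit.hasSplit_of_isoSuzuki hsz) (by rw [hc]; norm_num) (by rw [hc]; norm_num)
    (j := 91) (by norm_num) (by norm_num) (fun y hy => by
      have h1 := hc5 y hy
      have h2 := Subgroup.card_mul_index (centralizer ({y} : Set C.L))
      rw [h1, hc] at h2
      refine ⟨by omega, by rw [h1]; norm_num, by rw [h1]; norm_num⟩)
  exact ⟨x, hx, hN⟩

theorem factB {L : Type u} [Group L] [Finite L] (h : Cfsg.Spor.IsoRu L) : FactB L := by
  obtain ⟨y, hy, hN⟩ := exists_y h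
  obtain ⟨e⟩ := h
  let f : L ≃* RuOrder.H := e.trans RuLat.Main.equiv
  refine FactB.of_cl (y := y) ?_ (core_equiv f y (five (by rw [MulEquiv.orderOf_eq f y]; exact hy))) ?_ hN
  · rintro rfl
    rw [orderOf_one] at hy
    norm_num at hy
  · intro β
    obtain ⟨g, hg⟩ := OddHalf.Table.OutRu.inner ((f.symm.trans β).trans f)
    have h1 : f (β (f.symm (f y))) = g * f y * g⁻¹ := by
      have := congrArg (fun α : MulAut RuOrder.H => α (f y)) hg
      exact this
    rw [f.symm_apply_apply] at h1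
    refine isConj_iff.2 ⟨f.symm g, ?_⟩
    apply f.injective
    rw [map_mul, map_mul, map_inv, f.apply_symm_apply, h1]

/-- **The row of the Rudvalis group.** -/
theorem row {L : Type u} [Group L] [Finite L] (h : Cfsg.Spor.IsoRu L) (B : Base L) : Row 2 L :=
  row_of_facts B (factA h) (factB h)

end Cfsg.Agent.H191.WeakRu
end

-- part: H305/WkTools
section
prune_inst 0x104400010010000000000020000421110001020060000000020000000109410000090030203010110a2a20000e0040000000c9401000002000020040040000000a60c012000100010000004805180c00000000000000000000000000000000000000000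
set_option linter.all false
open scoped Cfsg.Agent.FastGrp

/-!
# S4095 at the prime 2: tools for the sporadic rows (helper305)

* `Wk.four` : `a` (of 2-power order) fixes no `y` of odd order with `|C(y)| = 12 * |y|` and a four-group `V ≤ C(y)` such
  that `C(y) ∩ C(v) = V ⟨y⟩` for `1 ≠ v ∈ V` (so `C(y)/⟨y⟩ ≅ A₄`);
* `core_of_isConj` : conjugates; `core_of_hom` : `O_2(C) = 1` if `C` maps onto a simple group which is not a 2-group, with
  kernel of odd order; `core_of_le` : `O_2(C(w)) = 1` if `|O_2| ≤ 2` and `|C(w)|` does not divide the orders of the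
  centralizers of the involutions; `card_core_mul_dvd` : `|O_2(C)| * |H| ∣ |C|` for a simple subgroup `H` which is not a
  2-group.
-/

set_option autoImplicit false
set_option linter.unusedSectionVars false
set_option linter.style.haveILetI false

namespace Cfsg.Agent.H305.WkTools

open Subgroup Cfsg Cfsg.Agent.H516 Cfsg.Agent.H509.Weak
open Cfsg.Agent.J2Type.CentQuot Cfsg.Agent.J2Type.FourSelfCent

universe u

section Four

variable {K : Type*} [Group K] [Finite K]

/-- in `A₄`: a bad automorphism of 2-power order is an involution and trivial on `O_2` -/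
theorem sq_eq_one_of_hyp {U : Subgroup K} (hU : Hyp U) (hK : Nat.card K = 12) {b : MulAut K} {n : ℕ}
    (hb : b ^ 2 ^ n = 1) (hbad : ∀ s : K, (b s)⁻¹ * s ∈ U) : ∀ s : K, b (b s) = s := by
  classical
  have hN : normalizer (U : Set K) = ⊤ := by
    rcases hU.card_normalizer with h | h
    · exact absurd (hU.card_eq_four h) (by rw [hK]; norm_num)
    · exact eq_top_of_card_eq _ (by rw [h, hK])
  have hconj : ∀ g u : K, u ∈ U → g * u * g⁻¹ ∈ U := fun g u hu =>
    (mem_normalizer_iff.1 (show g ∈ normalizer (U : Set K) by rw [hN]; exact mem_top g) u).1 hu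
  have hcomm : ∀ u ∈ U, ∀ v ∈ U, u * v = v * u := fun u hu v hv => hU.comm hu hv
  -- a fixed involution
  have hev := even_fixed (L := K) (a := b) (by rw [hK]; decide) hb
  haveI : Fact (Nat.Prime 2) := ⟨Nat.prime_two⟩
  obtain ⟨v, hv⟩ := exists_prime_orderOf_dvd_card' (G := fixedSubgroup b) 2 hev.two_dvd
  have hv2 : orderOf (v : K) = 2 := by rw [orderOf_coe]; exact hv
  have hbv : b (v : K) = v := v.2
  have hvv : (v : K) * v = 1 := by rw [← pow_two, ← hv2, pow_orderOf_eq_one]
  have hv1 : (v : K) ≠ 1 := by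
    intro h
    rw [h, orderOf_one] at hv2
    norm_num at hv2
  have hvU : (v : K) ∈ U := by
    obtain ⟨g, hg⟩ := hU.exists_conj_mem hvv
    have h1 := hconj g _ hg
    have h2 : g * (g⁻¹ * v * g) * g⁻¹ = v := by group
    rwa [h2] at h1
  -- a second fixed involution
  obtain ⟨s, hs⟩ : ∃ s : K, s ∉ U := by
    by_contra hcon
    push Not at hcon
    have h1 : U = ⊤ := by rw [eq_top_iff]; exact fun x _ => hcon x
    have h2 := hU.card4
    rw [h1, card_top, hK] at h2
    norm_num at h2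
  have hbs : ∀ s : K, b s = s * ((b s)⁻¹ * s)⁻¹ := fun s => by group
  have hfix2 : b (s * v * s⁻¹) = s * v * s⁻¹ := by
    have h1 := hcomm _ (U.inv_mem (hbad s)) _ hvU
    rw [map_mul, map_mul, map_inv, hbv, hbs s]
    calc s * ((b s)⁻¹ * s)⁻¹ * v * (s * ((b s)⁻¹ * s)⁻¹)⁻¹
        = s * (((b s)⁻¹ * s)⁻¹ * v) * ((b s)⁻¹ * s) * s⁻¹ := by group
      _ = s * (v * ((b s)⁻¹ * s)⁻¹) * ((b s)⁻¹ * s) * s⁻¹ := by rw [h1]
      _ = s * v * s⁻¹ := by group
  have hne : s * v * s⁻¹ ≠ v := by
    intro h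
    apply hs
    apply hU.cent _ hvU hv1
    exact mul_inv_eq_iff_eq_mul.1 h
  have hsU : s * v * s⁻¹ ∈ U := hconj s _ hvU
  -- `U` is fixed
  have hfixU : U ≤ fixedSubgroup b := by
    have h1 : U ⊓ fixedSubgroup b = U := by
      have h2 : Nat.card (U ⊓ fixedSubgroup b : Subgroup K) ∣ 4 := by
        rw [← hU.card4]
        exact card_dvd_of_le inf_le_left
      have h3 : 3 ≤ Nat.card (U ⊓ fixedSubgroup b : Subgroup K) := by
        have h4 : ({1, (v : K), s * v * s⁻¹} : Finset K).card = 3 := by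
          rw [Finset.card_insert_of_notMem, Finset.card_insert_of_notMem, Finset.card_singleton]
          · rw [Finset.mem_singleton]
            exact fun h => hne h.symm
          · rw [Finset.mem_insert, Finset.mem_singleton]
            rintro (h | h)
            · exact hv1 h.symm
            · apply hv1
              have h5 : (v : K) = s⁻¹ * (s * v * s⁻¹) * s := by group
              rw [h5, ← h]
              group
        have h5 : (({1, (v : K), s * v * s⁻¹} : Finset K) : Set K) ⊆ (U ⊓ fixedSubgroup b : Subgroup K) := by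
          intro x hx
          rw [Finset.coe_insert, Finset.coe_insert, Finset.coe_singleton] at hx
          rcases hx with rfl | rfl | rfl
          · exact one_mem _
          · exact ⟨hvU, hbv⟩
          · exact ⟨hsU, hfix2⟩
        have h6 := Set.ncard_le_ncard h5 (Set.toFinite _)
        rw [Set.ncard_coe_finset, h4] at h6
        exact h6
      have h4 : Nat.card (U ⊓ fixedSubgroup b : Subgroup K) = 4 := by
        have h5 := Nat.le_of_dvd (by norm_num) h2
        interval_cases h6 : Nat.card (U ⊓ fixedSubgroup b : Subgroup K)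
        · norm_num at h2
        · rfl
      exact eq_of_le_of_card_ge inf_le_left (by rw [h4, hU.card4])
    rw [← h1]
    exact inf_le_right
  intro s
  have h1 : b ((b s)⁻¹ * s) = (b s)⁻¹ * s := hfixU (hbad s)
  rw [map_mul, map_inv] at h1
  have h2 := hU.sq _ (hbad s)
  calc b (b s) = b s * ((b (b s))⁻¹ * b s)⁻¹ := by group
    _ = b s * ((b s)⁻¹ * s)⁻¹ := by rw [h1]
    _ = b s * ((b s)⁻¹ * s) := by rw [← eq_inv_of_mul_eq_one_left h2]
    _ = s := by group

/-- **a bad automorphism of 2-power order fixes no `y` with `C(y)/⟨y⟩ ≅ A₄`** -/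
theorem four {L : Type u} [Group L] [Finite L] {a : MulAut L} (W : Wk a) {n : ℕ} (ha : a ^ 2 ^ n = 1) {y : L}
    (hay : a y = y) {p : ℕ} (hp2 : Odd p) (hy : orderOf y = p)
    (hc : Nat.card (centralizer ({y} : Set L)) = 12 * p) {V : Subgroup L} (hV : Nat.card V = 4)
    (hsq : ∀ v ∈ V, v * v = 1) (hVy : ∀ v ∈ V, v * y = y * v)
    (hcent : ∀ v ∈ V, v ≠ 1 → ∀ x, x * v = v * x → x * y = y * x → ∃ w ∈ V, ∃ k : ℤ, x = w * y ^ k) : False := by
  have hU := hyp_im hp2 hy hV hsq hVy hcent
  set C := centralizer ({y} : Set L) with hC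
  set U := im y V with hUdef
  have hK : Nat.card (CQ y) = 12 := by
    have h1 := card_centralizer_eq y
    rw [← hC, hc, hy] at h1
    exact (Nat.eq_of_mul_eq_mul_right hp2.pos h1).symm
  have hN : normalizer (U : Set (CQ y)) = ⊤ := by
    rcases hU.card_normalizer with h | h
    · exact absurd (hU.card_eq_four h) (by rw [hK]; norm_num)
    · exact eq_top_of_card_eq _ (by rw [h, hK])
  have hconj : ∀ g u : CQ y, u ∈ U → g * u * g⁻¹ ∈ U := fun g u hu =>
    (mem_normalizer_iff.1 (show g ∈ normalizer (U : Set (CQ y)) by rw [hN]; exact mem_top g) u).1 hu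
  have hmap : C.map a.toMonoidHom = C := map_centralizer hay
  have haC : ∀ s ∈ C, a s ∈ C := by
    intro s hs
    rw [← hmap]
    exact ⟨s, hs, rfl⟩
  -- the automorphism of `C`
  let e : C ≃* C := (a.subgroupMap C).trans (MulEquiv.subgroupCongr hmap)
  have he : ∀ s : C, ((e s : C) : L) = a s := fun s => rfl
  have hcyc : (cyc y).map e.toMonoidHom = cyc y := by
    have h1 : (cyc y).map e.toMonoidHom ≤ cyc y := by
      rintro _ ⟨s, hs, rfl⟩
      rw [SetLike.mem_coe, mem_cyc] at hs
      rw [mem_cyc]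
      obtain ⟨k, hk⟩ := mem_zpowers_iff.1 hs
      refine mem_zpowers_iff.2 ⟨k, ?_⟩
      have h2 : ((e.toMonoidHom s : C) : L) = a s := rfl
      rw [h2, ← hk, map_zpow, hay]
    exact eq_of_le_of_card_ge h1 (card_map_of_injective e.injective).ge
  let b : MulAut (CQ y) := QuotientGroup.congr (cyc y) (cyc y) e hcyc
  have hb : ∀ s : C, b (s : CQ y) = ((e s : C) : CQ y) := fun s => rfl
  have hbn : b ^ 2 ^ n = 1 := by
    have h1 : ∀ (i : ℕ) (s : C), (b ^ i) (s : CQ y) = (((e : MulAut C) ^ i) s : C) := by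
      intro i s
      induction i with
      | zero => rw [pow_zero, pow_zero]; rfl
      | succ i ih => rw [pow_succ', MulAut.mul_apply, ih, hb, pow_succ', MulAut.mul_apply]
    have h2 : ∀ (i : ℕ) (s : C), ((((e : MulAut C) ^ i) s : C) : L) = (a ^ i) s := by
      intro i s
      induction i with
      | zero => rw [pow_zero, pow_zero]; rfl
      | succ i ih => rw [pow_succ', MulAut.mul_apply, he, ih, pow_succ', MulAut.mul_apply]
    ext x
    obtain ⟨s, rfl⟩ := QuotientGroup.mk_surjective x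
    rw [h1, MulAut.one_apply]
    congr 1
    apply Subtype.ext
    rw [h2, ha, MulAut.one_apply]
  -- involutions of `C/⟨y⟩` lie in `U`
  have hinv : ∀ x : CQ y, x * x = 1 → x ∈ U := by
    intro x hx
    obtain ⟨g, hg⟩ := hU.exists_conj_mem hx
    have h1 := hconj g _ hg
    have h2 : g * (g⁻¹ * x * g) * g⁻¹ = x := by group
    rwa [h2] at h1
  have hbad : ∀ x : CQ y, (b x)⁻¹ * x ∈ U := by
    intro x
    obtain ⟨s, rfl⟩ := QuotientGroup.mk_surjective x
    rw [hb]
    set c : C := (e s)⁻¹ * s with hcdef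
    have h0 : ((e s : C) : CQ y)⁻¹ * (s : CQ y) = (c : CQ y) := rfl
    rw [h0]
    have h1 : (c : L) = (a s)⁻¹ * s := rfl
    rcases W.bad s with h2 | h2
    · have h3 : c = 1 := Subtype.ext (h1.trans h2)
      rw [h3]
      exact one_mem _
    · -- an involution commuting with `c`
      rw [← h1] at h2
      obtain ⟨k, hk⟩ := h2
      have hpos := orderOf_pos (c : L)
      have hk0 : 0 < k := by omega
      set v : C := c ^ k with hv
      have hvL : (v : L) = (c : L) ^ k := rfl
      have hvv : (v : L) * v = 1 := by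
        rw [hvL, ← pow_add, ← two_mul, ← hk, pow_orderOf_eq_one]
      have hv1 : (v : L) ≠ 1 := by
        rw [hvL]
        exact pow_ne_one_of_lt_orderOf hk0.ne' (by omega)
      have hvU : (v : CQ y) ∈ U := by
        apply hinv
        have h3 : v * v = 1 := Subtype.ext hvv
        change ((v * v : C) : CQ y) = 1
        rw [h3]
        rfl
      have hvne : (v : CQ y) ≠ 1 := by
        intro h3
        rw [Cfsg.Agent.J2Type.CentQuot.mk_eq_one] at h3
        exact hv1 (eq_one_of_sq_of_mem_zpowers hp2 hy hvv h3)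
      refine hU.cent _ hvU hvne _ ?_
      change ((c * v : C) : CQ y) = ((v * c : C) : CQ y)
      rw [hv, ← pow_succ, ← pow_succ']
  have hbb := sq_eq_one_of_hyp hU hK hbn hbad
  -- `a * a` is inner
  obtain ⟨s0, hs0⟩ := W.sq a
  have hs0C : s0 ∈ C := by
    have h1 : (a * a) y = y := by rw [MulAut.mul_apply, hay, hay]
    rw [hs0, MulAut.conj_apply, mul_inv_eq_iff_eq_mul] at h1
    exact mem_centralizer_singleton_iff.2 h1
  have hcomm : ∀ s : C, (s : CQ y) * ((⟨s0, hs0C⟩ : C) : CQ y) = ((⟨s0, hs0C⟩ : C) : CQ y) * s := by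
    intro s
    have h1 := hbb (s : CQ y)
    rw [hb, hb] at h1
    have h2 : e (e s) = (⟨s0, hs0C⟩ : C) * s * (⟨s0, hs0C⟩ : C)⁻¹ := by
      apply Subtype.ext
      have h3 : ((e (e s) : C) : L) = (a * a) s := rfl
      rw [h3, hs0]
      rfl
    rw [h2] at h1
    have h3 : ((⟨s0, hs0C⟩ : C) : CQ y) * s * ((⟨s0, hs0C⟩ : C) : CQ y)⁻¹ = s := h1
    exact (mul_inv_eq_iff_eq_mul.1 h3).symm
  have hone : ((⟨s0, hs0C⟩ : C) : CQ y) = 1 := by
    by_contra hne
    obtain ⟨u0, hu0, hu01⟩ := hU.exists_ne_one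
    have h1 : ((⟨s0, hs0C⟩ : C) : CQ y) ∈ U := by
      refine hU.cent u0 hu0 hu01 _ ?_
      obtain ⟨s, rfl⟩ := QuotientGroup.mk_surjective u0
      exact (hcomm s).symm
    have h2 : U = ⊤ := by
      rw [eq_top_iff]
      intro x _
      obtain ⟨s, rfl⟩ := QuotientGroup.mk_surjective x
      exact hU.cent _ h1 hne _ (hcomm s)
    have h3 := hU.card4
    rw [h2, card_top, hK] at h3
    norm_num at h3
  rw [Cfsg.Agent.J2Type.CentQuot.mk_eq_one] at hone
  have h2 : s0 ^ 2 ^ n = 1 := by
    apply conj_injective W.center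
    rw [map_pow, ← hs0, map_one, ← pow_two, ← pow_mul, mul_comm, pow_mul, ha, one_pow]
  have h3 : orderOf s0 ∣ p := by rw [← hy]; exact orderOf_dvd_of_mem_zpowers hone
  have h4 : orderOf s0 ∣ 2 ^ n := orderOf_dvd_of_pow_eq_one h2
  have h5 : Nat.Coprime p (2 ^ n) := (Nat.coprime_two_right.2 hp2).pow_right n
  have h6 : orderOf s0 = 1 := Nat.eq_one_of_dvd_coprimes h5 h3 h4
  rw [orderOf_eq_one_iff] at h6
  apply W.sq_ne_one
  rw [hs0, h6, map_one]

end Four

section Core

variable {G : Type*} [Group G]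

theorem core_of_isConj {x y : G} (h : IsConj x y) (hO : pCore 2 ↥(centralizer ({x} : Set G)) = ⊥) :
    pCore 2 ↥(centralizer ({y} : Set G)) = ⊥ := by
  obtain ⟨c, rfl⟩ := isConj_iff.1 h
  exact pCore_equiv (centEquiv (MulAut.conj c) x) hO

/-- `O_2(C) = 1` if `C` maps onto a simple group which is not a 2-group, with kernel of odd order -/
theorem core_of_hom [Finite G] {A : Type*} [Group A] [Finite A] [IsSimpleGroup A] (hA : ¬ IsPGroup 2 A) (f : G →* A)
    (hf : Function.Surjective f) (hk : Odd (Nat.card f.ker)) : pCore 2 G = ⊥ := by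
  have h1 : ((pCore 2 G).map f).Normal := (Lib.Cores.pCore_normal 2).map f hf
  have h2 : (pCore 2 G).map f = ⊥ := by
    rcases h1.eq_bot_or_eq_top with h | h
    · exact h
    · exfalso
      apply hA
      have h3 : IsPGroup 2 ↥((pCore 2 G).map f) := (Lib.Cores.pCore_isPGroup (G := G) 2).map f
      rw [h] at h3
      intro g
      obtain ⟨k, hk⟩ := h3 ⟨g, mem_top g⟩
      exact ⟨k, congrArg Subtype.val hk⟩
  have h3 : pCore 2 G ≤ f.ker := by rwa [← Subgroup.map_eq_bot_iff]
  have h4 := card_dvd_of_le h3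
  have hf2 : Fact (Nat.Prime 2) := ⟨Nat.prime_two⟩
  obtain ⟨n, hn⟩ := (Lib.Cores.pCore_isPGroup (G := G) 2).exists_card_eq
  have h5 : n = 0 := by
    by_contra h6
    apply Nat.not_even_iff_odd.2 hk
    exact even_iff_two_dvd.2 (((dvd_pow_self 2 h6).trans (dvd_of_eq hn.symm)).trans h4)
  rw [h5, pow_zero] at hn
  exact eq_bot_of_card_eq _ hn

/-- `|O_2(C)| * |H| ∣ |C|` for a simple subgroup `H` which is not a 2-group -/
theorem card_core_mul_dvd [Finite G] (H : Subgroup G) [IsSimpleGroup H] (hH : ¬ IsPGroup 2 H) :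
    Nat.card (pCore 2 G) * Nat.card H ∣ Nat.card G := by
  have h1 : ((pCore 2 G).subgroupOf H).Normal := inferInstance
  have h2 : (pCore 2 G).subgroupOf H = ⊥ := by
    rcases h1.eq_bot_or_eq_top with h | h
    · exact h
    · exfalso
      apply hH
      rw [subgroupOf_eq_top] at h
      exact (Lib.Cores.pCore_isPGroup (G := G) 2).to_le h
  rw [subgroupOf_eq_bot] at h2
  have h3 : Nat.card H = Nat.card (H.map (QuotientGroup.mk' (pCore 2 G))) := by
    have h4 : Function.Injective ((QuotientGroup.mk' (pCore 2 G)).comp H.subtype) := by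
      rw [injective_iff_map_eq_one]
      intro x hx
      have h5 : (x : G) ∈ pCore 2 G := (QuotientGroup.eq_one_iff (x : G)).1 hx
      exact Subtype.ext ((disjoint_iff_inf_le.1 h2 ⟨h5, x.2⟩ : (x : G) ∈ (⊥ : Subgroup G)))
    have h5 := Nat.card_congr (MonoidHom.ofInjective h4).toEquiv
    rw [MonoidHom.range_comp, range_subtype] at h5
    exact h5
  rw [h3, Subgroup.card_eq_card_quotient_mul_card_subgroup (pCore 2 G), mul_comm]
  exact Nat.mul_dvd_mul_right (card_subgroup_dvd_card _) _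

/-- `O_2(C(w)) = 1` if `|O_2| ≤ 2` and `|C(w)|` does not divide the orders of the centralizers of the involutions -/
theorem core_of_le [Finite G] {w : G} (h : Nat.card (pCore 2 ↥(centralizer ({w} : Set G))) ≤ 2)
    (hinv : ∀ t : G, orderOf t = 2 →
      ¬ Nat.card (centralizer ({w} : Set G)) ∣ Nat.card (centralizer ({t} : Set G))) :
    pCore 2 ↥(centralizer ({w} : Set G)) = ⊥ := by
  by_contra hne
  haveI : Fact (Nat.Prime 2) := ⟨Nat.prime_two⟩
  set R := pCore 2 ↥(centralizer ({w} : Set G)) with hR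
  haveI hnt : Nontrivial R := (Subgroup.nontrivial_iff_ne_bot R).2 hne
  have h2 : Nat.card R = 2 := le_antisymm h (Finite.one_lt_card)
  obtain ⟨t, ht⟩ := exists_prime_orderOf_dvd_card' (G := R) 2 (by rw [h2])
  have ht2 : orderOf ((t : ↥(centralizer ({w} : Set G))) : G) = 2 := by
    rw [orderOf_coe, orderOf_coe]
    exact ht
  apply hinv _ ht2
  apply card_dvd_of_le
  intro c hc
  rw [mem_centralizer_singleton_iff]
  have hn : R.Normal := Lib.Cores.pCore_normal 2
  have h3 : (⟨c, hc⟩ : ↥(centralizer ({w} : Set G))) * t * (⟨c, hc⟩ : ↥(centralizer ({w} : Set G)))⁻¹ ∈ R :=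
    hn.conj_mem _ t.2 _
  have h4 : ∀ x : R, x = 1 ∨ x = t := by
    have h5 : ((Set.univ : Set R)).ncard = 2 := by rw [Set.ncard_univ, h2]
    have h6 : ({1, t} : Set R).ncard = 2 := by
      rw [Set.ncard_pair]
      rintro rfl
      rw [orderOf_one] at ht
      norm_num at ht
    have h7 : ({1, t} : Set R) = Set.univ :=
      Set.eq_of_subset_of_ncard_le (Set.subset_univ _) (by rw [h5, h6]) (Set.toFinite _)
    intro x
    have h8 : x ∈ ({1, t} : Set R) := by rw [h7]; exact Set.mem_univ x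
    exact h8
  rcases h4 ⟨_, h3⟩ with h5 | h5
  · exfalso
    have h6 := congrArg Subtype.val h5
    have h7 : (t : ↥(centralizer ({w} : Set G))) = 1 := by
      have h8 : (⟨c, hc⟩ : ↥(centralizer ({w} : Set G))) * t * (⟨c, hc⟩ : ↥(centralizer ({w} : Set G)))⁻¹ = 1 := h6
      rwa [conj_eq_one_iff] at h8
    rw [h7] at ht2
    norm_num at ht2
  · have h6 := congrArg Subtype.val h5
    have h7 : (⟨c, hc⟩ : ↥(centralizer ({w} : Set G))) * t * (⟨c, hc⟩ : ↥(centralizer ({w} : Set G)))⁻¹ = t := h6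
    have h8 := congrArg Subtype.val (mul_inv_eq_iff_eq_mul.1 h7)
    exact h8

end Core

end Cfsg.Agent.H305.WkTools
end

-- part: H305/WkJ2
section
set_option linter.all false
open scoped Cfsg.Agent.FastGrp

/-!
# The row `J2` of S4095 at the prime 2 (helper305)
-/

set_option autoImplicit false
set_option linter.unusedSectionVars false
set_option linter.style.haveILetI false

namespace Cfsg.Agent.H305.WkJ2

open Subgroup Cfsg Cfsg.Agent.H516 Cfsg.Agent.H509.Weak Cfsg.Agent.H305.WkTools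
open Cfsg.Agent.J2Type Cfsg.Agent.J2Type.CentQuot Cfsg.Agent.J2Type.FourSelfCent Cfsg.Agent.J2Type.Base
  Cfsg.Agent.J2Type.CentU
open Cfsg.Agent.H652.Four Cfsg.Agent.Blocks.LocalRing Cfsg.Agent.Blocks

universe u

variable {G : Type u} [Group G] [Finite G] {z u : G}

theorem not_two_A5 : ¬ IsPGroup 2 (alternatingGroup (Fin 5)) := by
  intro h
  obtain ⟨n, hn⟩ := h.exists_card_eq
  have h1 : Nat.card (alternatingGroup (Fin 5)) = 60 := by
    rw [nat_card_alternatingGroup, Nat.card_eq_fintype_card, Fintype.card_fin]; rfl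
  rw [h1] at hn
  have h2 : 3 ∣ 2 ^ n := by rw [← hn]; norm_num
  have h3 := (Nat.prime_dvd_prime_iff_eq Nat.prime_three Nat.prime_two).1 (Nat.prime_three.dvd_of_dvd_pow h2)
  norm_num at h3

theorem card_cent_two (h : Fus z u) (t : G) (ht : orderOf t = 2) :
    Nat.card (centralizer ({t} : Set G)) = 1920 ∨ Nat.card (centralizer ({t} : Set G)) = 240 := by
  rcases h.cover t ht with h1 | h1
  · left; rw [← Cent5.card_centralizer_of_isConj h1, h.cardC]
  · right; rw [← Cent5.card_centralizer_of_isConj h1, Order.card_centralizer_u h]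

/-- the elements of order 3 -/
theorem three (h : Fus z u) (w : G) (hw : orderOf w = 3) : pCore 2 ↥(centralizer ({w} : Set G)) = ⊥ ∨
    Nat.card (centralizer ({w} : Set G)) = 36 := by
  obtain ⟨f, U, V, H0, F⟩ := CentU.main h
  obtain ⟨d, hd, -, hdH⟩ := ThreeA.exists_d h F
  have hcd := ThreeD.card_centralizer_d h F hd hdH
  obtain ⟨a, b, ha, hb, hca, hcb, hcl, -⟩ := ThreeF.main h
  have hda : IsConj d a := by
    rcases hcl d hd with h1 | h1
    · exact h1
    · have := Cent5.card_centralizer_of_isConj h1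
      rw [hcd, hcb] at this
      norm_num at this
  rcases hcl w hw with h1 | h1
  swap
  · right; rw [Cent5.card_centralizer_of_isConj h1, hcb]
  left
  refine core_of_isConj (hda.trans h1.symm) ?_
  -- `O_2(C(d)) = 1`
  haveI := ThreeA.isSimpleGroup_H0 h F
  have h60 := ThreeA.card_H0 h F
  have hle : H0 ≤ centralizer ({d} : Set G) := fun x hx => mem_centralizer_singleton_iff.2 (hdH x hx).symm
  let e := subgroupOfEquivOfLe hle
  haveI : IsSimpleGroup (H0.subgroupOf (centralizer ({d} : Set G))) := by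
    haveI : Nontrivial (H0.subgroupOf (centralizer ({d} : Set G))) := e.toEquiv.nontrivial
    exact IsSimpleGroup.isSimpleGroup_of_surjective e.symm.toMonoidHom e.symm.surjective
  have hcH : Nat.card (H0.subgroupOf (centralizer ({d} : Set G))) = 60 := by rw [Nat.card_congr e.toEquiv, h60]
  have h2 := card_core_mul_dvd (H0.subgroupOf (centralizer ({d} : Set G))) (fun h2 => by
    obtain ⟨n, hn⟩ := h2.exists_card_eq
    rw [hcH] at hn
    have h3 : 3 ∣ 2 ^ n := by rw [← hn]; norm_num
    have h4 := (Nat.prime_dvd_prime_iff_eq Nat.prime_three Nat.prime_two).1 (Nat.prime_three.dvd_of_dvd_pow h3)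
    norm_num at h4)
  rw [hcH, hcd] at h2
  have h3 : Nat.card (pCore 2 ↥(centralizer ({d} : Set G))) ∣ 18 := by
    have h4 : Nat.card (pCore 2 ↥(centralizer ({d} : Set G))) * 60 ∣ 18 * 60 := by
      rw [show 18 * 60 = 1080 by norm_num]; exact h2
    exact Nat.dvd_of_mul_dvd_mul_right (by norm_num) h4
  refine core_of_le ?_ fun t ht => ?_
  · haveI : Fact (Nat.Prime 2) := ⟨Nat.prime_two⟩
    obtain ⟨n, hn⟩ := (Lib.Cores.pCore_isPGroup (G := ↥(centralizer ({d} : Set G))) 2).exists_card_eq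
    rw [hn] at h3 ⊢
    have h4 : n ≤ 1 := by
      by_contra h5
      have h6 : 2 ^ 2 ∣ 18 := (pow_dvd_pow 2 (by omega)).trans h3
      norm_num at h6
    exact (Nat.pow_le_pow_right (by norm_num) h4).trans (by norm_num)
  · rw [hcd]
    rcases card_cent_two h t ht with h4 | h4 <;> rw [h4] <;> norm_num

/-- the elements of order 5 -/
theorem five (h : Fus z u) (w : G) (hw : orderOf w = 5) : pCore 2 ↥(centralizer ({w} : Set G)) = ⊥ := by
  haveI : Fact (Nat.Prime 5) := ⟨Nat.prime_five⟩
  haveI : Fact (Nat.Prime 2) := ⟨Nat.prime_two⟩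
  have hG := Order.card_of_fus h
  obtain ⟨f, U, V, H0, F⟩ := CentU.main h
  have h60 := ThreeA.card_H0 h F
  obtain ⟨w', hw'⟩ := exists_prime_orderOf_dvd_card' (G := H0) 5 (by rw [h60]; norm_num)
  obtain ⟨w0, hw0⟩ := exists_prime_orderOf_dvd_card' (G := centralizer ({z} : Set G)) 5 (by rw [h.cardC]; norm_num)
  have hw'5 : orderOf (w' : G) = 5 := by rw [orderOf_coe]; exact hw'
  have hw05 : orderOf (w0 : G) = 5 := by rw [orderOf_coe]; exact hw0
  have hwz : (w0 : G) * z = z * w0 := mem_centralizer_singleton_iff.mp w0.2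
  have hgood := Cent5.good_of_mem h F h60 w'.2 hw'5
  have h4 := FiveFus.not_four_dvd h hw05 hwz
  obtain ⟨-, hcl⟩ := ThreeC.five_data hG hgood hw05 (FiveFus.real_of_comm h hw05 hwz) h4
  have hsq : ∀ x : G, orderOf x = 5 → centralizer ({x ^ 2} : Set G) = centralizer ({x} : Set G) :=
    fun x hx => SylowFive.centralizer_sq hx
  have k1 : pCore 2 ↥(centralizer ({(w' : G)} : Set G)) = ⊥ := by
    obtain ⟨e⟩ := Cent5.exists_equiv_CQ h F h60 hG w'.2 hw'5
    haveI : IsSimpleGroup (alternatingGroup (Fin 5)) := alternatingGroup.isSimpleGroup (by simp)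
    refine core_of_hom not_two_A5 (e.toMonoidHom.comp (QuotientGroup.mk' (cyc (w' : G))))
      (e.surjective.comp (QuotientGroup.mk'_surjective _)) ?_
    have h5 : (e.toMonoidHom.comp (QuotientGroup.mk' (cyc (w' : G)))).ker = cyc (w' : G) := by
      rw [MonoidHom.ker_comp_of_injective _ _ e.injective, QuotientGroup.ker_mk']
    rw [h5, card_cyc, hw'5]
    decide
  have k2 : pCore 2 ↥(centralizer ({(w0 : G)} : Set G)) = ⊥ := by
    refine core_of_le ?_ fun t ht hd => ?_
    · obtain ⟨n, hn⟩ := (Lib.Cores.pCore_isPGroup (G := ↥(centralizer ({(w0 : G)} : Set G))) 2).exists_card_eq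
      have h5 := card_subgroup_dvd_card (pCore 2 ↥(centralizer ({(w0 : G)} : Set G)))
      rw [hn] at h5 ⊢
      have h6 : n ≤ 1 := by
        by_contra h7
        exact h4 ((pow_dvd_pow 2 (by omega : 2 ≤ n)).trans h5)
      exact (Nat.pow_le_pow_right (by norm_num) h6).trans (by norm_num)
    · have h5 : 25 ∣ Nat.card (centralizer ({(w0 : G)} : Set G)) := by
        have h6 : IsPGroup 5 (zpowers (w0 : G)) := IsPGroup.of_card (n := 1) (by rw [Nat.card_zpowers, hw05, pow_one])
        obtain ⟨P, hP⟩ := h6.exists_le_sylow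
        rw [← SylowFive.card_sylow_five hG P]
        exact card_dvd_of_le (SylowFive.sylow_le_centralizer hG P (hP (mem_zpowers _)))
      have h6 := h5.trans hd
      rcases card_cent_two h t ht with h7 | h7 <;> rw [h7] at h6 <;> norm_num at h6
  rcases hcl w hw with h5 | h5 | h5 | h5
  · exact core_of_isConj h5 k1
  · refine core_of_isConj h5 ?_
    rw [hsq _ hw'5]; exact k1
  · exact core_of_isConj h5 k2
  · refine core_of_isConj h5 ?_
    rw [hsq _ hw05]; exact k2

/-- the elements of order 7 -/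
theorem seven (h : Fus z u) (w : G) (hw : orderOf w = 7) : Nat.card (centralizer ({w} : Set G)) = 7 := by
  haveI : Fact (Nat.Prime 7) := ⟨by norm_num⟩
  have hG := Order.card_of_fus h
  have h6 : IsPGroup 7 (zpowers w) := IsPGroup.of_card (n := 1) (by rw [Nat.card_zpowers, hw, pow_one])
  obtain ⟨P, hP⟩ := h6.exists_le_sylow
  have h7 : Nat.card (P : Subgroup G) = 7 := by
    have := SylowSeven.card_sylow P 1 86400 (by rw [hG]; norm_num) (by norm_num)
    simpa using this
  have h8 : zpowers w = (P : Subgroup G) := eq_of_le_of_card_ge hP (by rw [h7, Nat.card_zpowers, hw])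
  have h9 := (ThreeF.sylow_seven h P).1
  rw [← h8] at h9
  have h10 : centralizer ({w} : Set G) = centralizer ((zpowers w : Subgroup G) : Set G) := by
    rw [zpowers_eq_closure, centralizer_closure]
  rw [h10, h9, Nat.card_zpowers, hw]

/-- `5² : 3` -/
theorem exists_Q (h : Fus z u) : ∃ Q : Subgroup G, Nat.card Q = 75 := by
  haveI : Fact (Nat.Prime 5) := ⟨Nat.prime_five⟩
  haveI : Fact (Nat.Prime 3) := ⟨Nat.prime_three⟩
  obtain ⟨P⟩ : Nonempty (Sylow 5 G) := inferInstance
  obtain ⟨-, h25, h300, -⟩ := FiveFus.sylow_five h P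
  set N := normalizer ((P : Subgroup G) : Set G) with hN
  have hP : (P : Subgroup G) ≤ N := le_normalizer
  haveI hn : ((P : Subgroup G).subgroupOf N).Normal := normal_in_normalizer
  have h1 : Nat.card ((P : Subgroup G).subgroupOf N) = 25 := by
    rw [Nat.card_congr (subgroupOfEquivOfLe hP).toEquiv]
    exact h25
  have h2 := Subgroup.card_eq_card_quotient_mul_card_subgroup ((P : Subgroup G).subgroupOf N)
  rw [h300, h1] at h2
  have h3 : Nat.card (N ⧸ (P : Subgroup G).subgroupOf N) = 12 := by omega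
  obtain ⟨x, hx⟩ := exists_prime_orderOf_dvd_card' (G := N ⧸ (P : Subgroup G).subgroupOf N) 3 (by rw [h3]; norm_num)
  refine ⟨((zpowers x).comap (QuotientGroup.mk' ((P : Subgroup G).subgroupOf N))).map N.subtype, ?_⟩
  rw [card_map_of_injective N.subtype_injective, SylowFive.card_comap_mk', Nat.card_zpowers, hx, h1]

theorem factA (h : Fus z u) : FactA G := by
  obtain ⟨Q, hQ⟩ := exists_Q h
  refine ⟨Q, by rw [hQ]; decide, fun w hw hw2 => ?_⟩
  have hG := Order.card_of_fus h
  have h1 : orderOf w ∈ Nat.primeFactors 604800 :=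
    Nat.mem_primeFactors.2 ⟨hw, by rw [← hG]; exact orderOf_dvd_natCard w, by norm_num⟩
  have h2 : Nat.primeFactors 604800 = {2, 3, 5, 7} := by decide +kernel
  rw [h2] at h1
  simp only [Finset.mem_insert, Finset.mem_singleton] at h1
  rcases h1 with h1 | h1 | h1 | h1
  · exact absurd h1 hw2
  · rcases three h w h1 with h3 | h3
    · exact Or.inl h3
    · right; rw [h3, hQ]; norm_num
  · exact Or.inl (five h w h1)
  · right; rw [seven h w h1, hQ]; norm_num

/-- **The row `J2`.** -/
theorem row {L : Type u} [Group L] [Finite L] (h : Cfsg.Spor.IsoJ2 L) (B : Cfsg.Agent.H509.Weak.Base L) :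
    Cfsg.Agent.H516.Row 2 L := by
  obtain ⟨z, u, Q, v, ρ, D⟩ := Cfsg.Agent.KFacts.J2.Facts.exists_dat_of h
  have hF := D.F
  rw [row_iff]
  intro a ha
  by_contra hne
  have W : Wk a := { B with bad := ha, ne := hne }
  obtain ⟨n, hn⟩ := W.two_of_factA (factA hF)
  obtain ⟨f, U, V, H0, F⟩ := CentU.main hF
  have h60 := ThreeA.card_H0 hF F
  obtain ⟨d, hd, -, hdH⟩ := ThreeA.exists_d hF F
  have hcf := ThreeD.card_centralizer_f hF F hd hdH
  obtain ⟨a', b', -, -, hca, hcb, hcl, -⟩ := ThreeF.main hF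
  have hfb : ∀ x : L, orderOf x = 3 → Nat.card (centralizer ({x} : Set L)) = 36 → IsConj x b' := by
    intro x hx hcx
    rcases hcl x hx with h1 | h1
    · have := Cent5.card_centralizer_of_isConj h1
      rw [hcx, hca] at this
      norm_num at this
    · exact h1
  obtain ⟨e⟩ := Cent5.exists_equiv hF F h60
  -- the class of `f`
  have hinv : ∀ β : MulAut L, ∀ y ∈ {y : L | IsConj f y}, β y ∈ {y : L | IsConj f y} := by
    intro β y hy
    have h1 : orderOf (β y) = 3 := by
      rw [MulEquiv.orderOf_eq, ← SylowFive.orderOf_eq_of_isConj hy]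
      exact F.f_ord
    have h2 : Nat.card (centralizer ({β y} : Set L)) = 36 := by
      rw [← Nat.card_congr (centEquiv β y).toEquiv, ← Cent5.card_centralizer_of_isConj hy, hcf]
    exact (hfb f F.f_ord hcf).trans (hfb _ h1 h2).symm
  obtain ⟨M, hM⟩ := exists_two_modular
  have hNN : NN M (ind {y : L | IsConj f y}) := by
    have h1 : (ind {y : L | IsConj f y} : L → ℂ) = cl f := by
      ext y
      by_cases hy : IsConj f y
      · rw [cl_pos hy]; exact ind_pos hy
      · rw [cl_neg hy]; exact ind_neg hy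
    rw [h1]
    refine Cfsg.Agent.H654.FourStep.nn_of_alt_five hM hF.hu H0 F.str.le F.str.conj_mem (fun g hg h3 => ?_) e
      F.f_ord F.f_mem
    have h4 : g = (g * g)⁻¹ := eq_inv_of_mul_eq_one_right h3
    rw [h4]
    exact inv_mem (F.str.sq_mem g hg)
  obtain ⟨y, hy, hay⟩ := W.exists_fix_of_nn hn hinv hM hNN
  -- the four-group
  obtain ⟨g, rfl⟩ := isConj_iff.1 (show IsConj f y from hy)
  have h3' : orderOf (⟨f, F.f_mem⟩ : H0) = 3 := by rw [← orderOf_coe]; exact F.f_ord
  have hcent := Cent5.cent_VH hF F h60 F.f_mem (fun x hx hxw => by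
    rcases Cent5.mem_zpowers_of_comm3 e (g := (⟨f, F.f_mem⟩ : H0)) (x := ⟨x, hx⟩) h3' (Subtype.ext hxw) with
      h1 | h1 | h1
    · exact ⟨0, by rw [zpow_zero]; exact congrArg Subtype.val h1⟩
    · exact ⟨1, by rw [zpow_one]; exact congrArg Subtype.val h1⟩
    · refine ⟨2, ?_⟩
      have h2 : x = f ^ (2 : ℕ) := congrArg Subtype.val h1
      rw [h2]; norm_cast)
  refine four W hn hay (p := 3) (by decide) ?_ ?_ (V := V.map (MulAut.conj g).toMonoidHom) ?_ ?_ ?_ ?_
  · rw [← SylowFive.orderOf_eq_of_isConj (isConj_iff.2 ⟨g, rfl⟩)]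
    exact F.f_ord
  · rw [← Cent5.card_centralizer_of_isConj (isConj_iff.2 ⟨g, rfl⟩ : IsConj f (g * f * g⁻¹)), hcf]
  · rw [card_map_of_injective (MulAut.conj g).injective]; exact F.cardV
  · rintro _ ⟨x, hx, rfl⟩
    change (g * x * g⁻¹) * (g * x * g⁻¹) = 1
    have h1 : (g * x * g⁻¹) * (g * x * g⁻¹) = g * (x * x) * g⁻¹ := by group
    rw [h1, Cent5.sq_V hF F hx]; group
  · rintro _ ⟨x, hx, rfl⟩
    change (g * x * g⁻¹) * (g * f * g⁻¹) = (g * f * g⁻¹) * (g * x * g⁻¹)
    have h1 : (g * x * g⁻¹) * (g * f * g⁻¹) = g * (x * f) * g⁻¹ := by group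
    rw [h1, Cent5.V_comm hF F h60 hx F.f_mem]; group
  · rintro _ ⟨x, hx, rfl⟩ hx1 s hs hsf
    have hx1' : x ≠ 1 := by rintro rfl; exact hx1 (map_one _)
    change s * (g * x * g⁻¹) = (g * x * g⁻¹) * s at hs
    obtain ⟨w, hw, k, hk⟩ := hcent x hx hx1' (g⁻¹ * s * g) (by
        calc g⁻¹ * s * g * x = g⁻¹ * (s * (g * x * g⁻¹)) * g := by group
          _ = x * (g⁻¹ * s * g) := by rw [hs]; group) (by
        calc g⁻¹ * s * g * f = g⁻¹ * (s * (g * f * g⁻¹)) * g := by group
          _ = f * (g⁻¹ * s * g) := by rw [hsf]; group)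
    refine ⟨g * w * g⁻¹, ⟨w, hw, rfl⟩, k, ?_⟩
    have h1 : s = g * (g⁻¹ * s * g) * g⁻¹ := by group
    rw [h1, hk, conj_zpow]; group

end Cfsg.Agent.H305.WkJ2
end

-- part: H451/Weak/MEleven
section
set_option linter.all false
open scoped Cfsg.Agent.FastGrp

/-!
# S4095 at the prime 2: `O_2(C(x)) = 1` for `x` of order 11 and 13 in the Monster (helper451)
-/

set_option autoImplicit false
set_option maxRecDepth 100000

namespace Cfsg.Agent.H451.Weak.M

open Cfsg Cfsg.Agent.MonsterU Cfsg.Agent.LThreeMB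
open Cfsg.Agent.MonsterU.Lam2 Cfsg.Agent.MonsterU.TwoCls
open Cfsg.Agent.BpTab Cfsg.Agent.BpSpor.MBigModel Cfsg.Agent.BpSpor.MBig
open Cfsg.Agent.MonsterX Cfsg.Agent.MonsterX.MainBasic Cfsg.Agent.MonsterX.MainSimple Cfsg.Agent.MonsterX.Model
open Cfsg.Agent.MonsterX.MainPack
open Cfsg.Spor (Co1)
open Subgroup (centralizer zpowers mem_centralizer_singleton_iff)

theorem core_eleven {x : MG} (hx : orderOf x = 11) : pCore 2 ↥(centralizer ({x} : Set MG)) = ⊥ := by
  have hfin := finite
  have : Fact (Nat.Prime 11) := ⟨by norm_num⟩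
  refine core_of_noTwo (p := 11) ?_ (fun t ht => BpSpor.MBigEleven.not_sq_in (Or.inl rfl) t ht)
    (BpSpor.MBigEleven.noTwo hx)
  exact BpSpor.sq_dvd_centralizer (by norm_num) hx (by rw [card_M]; norm_num)

/-- an elementary abelian subgroup of `C(x)` of order at least 16 contains a conjugate of `z` -/
theorem exists_conj_z {x : MG} {V : Subgroup ↥(centralizer ({x} : Set MG))} (hV : ∀ v ∈ V, v * v = 1)
    (hc : 16 ≤ Nat.card V) : ∃ w ∈ V, ∃ g : MG, g * zz * g⁻¹ = (w : MG) := by
  obtain ⟨w, ⟨v, hv, rfl⟩, hg⟩ := exists_zconj (V.map (centralizer ({x} : Set MG)).subtype) (by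
    rintro _ ⟨a, ha, rfl⟩
    rw [← map_mul, hV a ha, map_one]) (by
      rw [Subgroup.card_map_of_injective (centralizer ({x} : Set MG)).subtype_injective]
      exact hc)
  exact ⟨v, hv, hg⟩

theorem noTwo_thirteen {x : MG} (hx : orderOf x = 13) : NoTwo 13 ↥(centralizer ({x} : Set MG)) := by
  have hfin := finite
  intro A hA m hm hmd hd
  have hm12 : 12 ≤ m := by
    by_contra hlt
    push Not at hlt
    interval_cases m <;> revert hd <;> norm_num
  have hpos : 0 < Nat.card ↥A := Nat.card_pos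
  have hcA : 2 ^ 12 ≤ Nat.card ↥A := Nat.le_of_dvd hpos ((pow_dvd_pow 2 hm12).trans hmd)
  obtain ⟨w, hw, g, hg⟩ := exists_conj_z hA (by omega)
  obtain ⟨x', hx', -, -, hd'⟩ := exists_z (p := 13) (by norm_num) (by norm_num) hx hA hw hg
  have hpx : orderOf (pi x') = 13 := MFive.orderOf_pi chart (by norm_num) (by decide) hx'
  have h1 := card_inf_le (p := 13) (by norm_num) (by decide) hx'
  rw [BpSpor.MBigCo.fr_thirteen hpx] at h1
  have h2 := Nat.le_of_dvd (by norm_num) (H109.Nr.Co.card_cent_co1 hpx)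
  have h3 := Nat.le_of_dvd Nat.card_pos hd'
  omega

theorem core_thirteen {x : MG} (hx : orderOf x = 13) : pCore 2 ↥(centralizer ({x} : Set MG)) = ⊥ := by
  have hfin := finite
  have : Fact (Nat.Prime 13) := ⟨by norm_num⟩
  refine core_of_noTwo (p := 13) ?_ (fun t ht => BpSpor.MBigEleven.not_sq_in (Or.inr rfl) t ht)
    (noTwo_thirteen hx)
  exact BpSpor.sq_dvd_centralizer (by norm_num) hx (by rw [card_M]; norm_num)

end Cfsg.Agent.H451.Weak.M
end

-- part: H383/W2/Core
section
prune_inst 0x20100400702210000000000002000421110001020020000000020000080901000000010002003110900a228000040040010001c0421000000a000000400400000009000210100c00100000000005180c00000000000000000000000000000000000000000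
set_option linter.all false
open scoped Cfsg.Agent.FastGrp

/-!
# S4095 at the prime 2: an abstract form of the Baer–Suzuki argument (helper383)

`mem_two_core` : if `b ∈ Y`, `N` is a normal subgroup of exponent 2 of `Y` with `b² ∈ N` and all commutators
`(b y b⁻¹)⁻¹ y`, `y` of odd order, are trivial or of even order, then `b ∈ O_2(Y)`.
-/

set_option autoImplicit false

namespace Cfsg.Agent.H383.W2

open Subgroup

/-- reindexing of a periodic product -/
theorem prod_reindex {M : Type*} [CommMonoid M] {m k : ℕ} (hm : 0 < m) (hk : Nat.Coprime k m) (F : ℕ → M)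
    (hF : ∀ i, F (i % m) = F i) : ∏ i ∈ Finset.range m, F (k * i) = ∏ i ∈ Finset.range m, F i := by
  classical
  have himg : (Finset.range m).image (fun i => (k * i) % m) = Finset.range m := by
    apply Finset.eq_of_subset_of_card_le
    · intro i hi
      obtain ⟨j, -, rfl⟩ := Finset.mem_image.1 hi
      exact Finset.mem_range.2 (Nat.mod_lt _ hm)
    · rw [Finset.card_image_of_injOn]
      intro i hi j hj hij
      have hi' : i < m := Finset.mem_range.1 hi
      have hj' : j < m := Finset.mem_range.1 hj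
      have h1 : k * i ≡ k * j [MOD m] := hij
      have h2 : i ≡ j [MOD m] := Nat.ModEq.cancel_left_of_coprime (by rw [Nat.gcd_comm]; exact hk) h1
      rw [Nat.ModEq, Nat.mod_eq_of_lt hi', Nat.mod_eq_of_lt hj'] at h2
      exact h2
  conv_rhs => rw [← himg]
  rw [Finset.prod_image]
  · exact Finset.prod_congr rfl fun i _ => (hF (k * i)).symm
  · intro i hi j hj hij
    have hi' : i < m := Finset.mem_range.1 hi
    have hj' : j < m := Finset.mem_range.1 hj
    have h1 : k * i ≡ k * j [MOD m] := hij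
    have h2 : i ≡ j [MOD m] := Nat.ModEq.cancel_left_of_coprime (by rw [Nat.gcd_comm]; exact hk) h1
    rw [Nat.ModEq, Nat.mod_eq_of_lt hi', Nat.mod_eq_of_lt hj'] at h2
    exact h2

section

variable {Y : Type*} [Group Y]

theorem norm_eq {N : Subgroup Y} [hNn : N.Normal] (hN : ∀ x ∈ N, x * x = 1) {u c : Y} (hu : u ∈ N) {m : ℕ}
    (hm : Odd m) (hc : c ^ m = 1) (h : (u * c⁻¹) ^ m = 1) : (u * c ^ 2) ^ m = 1 := by
  classical
  have hcomm : ∀ x y : N, x * y = y * x := by
    intro x y
    have h1 := hN _ (x * y).2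
    have h2 := hN _ x.2
    have h3 := hN _ y.2
    apply Subtype.ext
    change (x : Y) * y = y * x
    have h4 : ((x : Y) * y) * (x * y) = 1 := h1
    have h5 : (x : Y)⁻¹ = x := inv_eq_of_mul_eq_one_left h2
    have h6 : (y : Y)⁻¹ = y := inv_eq_of_mul_eq_one_left h3
    have h7 : ((x : Y) * y)⁻¹ = x * y := inv_eq_of_mul_eq_one_left h4
    rw [mul_inv_rev, h5, h6] at h7
    exact h7.symm
  let _ : CommGroup N := { (inferInstance : Group N) with mul_comm := hcomm }
  -- the norm
  have hform : ∀ (x : Y) (n : ℕ), (u * x) ^ n =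
      ((∏ i ∈ Finset.range n, ((MulAut.conjNormal x : MulAut N) ^ i) ⟨u, hu⟩ : N) : Y) * x ^ n := by
    intro x n
    induction n with
    | zero => simp
    | succ n ih =>
      rw [pow_succ, ih, Finset.prod_range_succ]
      have h1 : ((((MulAut.conjNormal x : MulAut N) ^ n) ⟨u, hu⟩ : N) : Y) = x ^ n * u * (x ^ n)⁻¹ := by
        rw [← map_pow, MulAut.conjNormal_apply]
      rw [Subgroup.coe_mul, h1, pow_succ]
      group
  obtain ⟨k, hk⟩ : ∃ k, m = 2 * k + 1 := hm
  by_cases hk0 : k = 0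
  · subst hk0
    rw [hk, mul_zero, zero_add, pow_one] at hc h ⊢
    rw [hc, inv_one, mul_one] at h
    rw [hc, h]
    simp
  have hm0 : 0 < m := by omega
  set χ : MulAut N := MulAut.conjNormal c⁻¹ with hχ
  have hχm : χ ^ m = 1 := by rw [hχ, ← map_pow, inv_pow, hc, inv_one, map_one]
  have hχc : (MulAut.conjNormal (c ^ 2) : MulAut N) = χ ^ (m - 2) := by
    rw [hχ, ← map_pow]
    congr 1
    have h1 : c⁻¹ ^ (m - 2) * c⁻¹ ^ 2 = 1 := by
      rw [← pow_add, Nat.sub_add_cancel (by omega), inv_pow, hc, inv_one]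
    rw [inv_pow c 2, mul_inv_eq_one] at h1
    exact h1.symm
  have h1 := hform c⁻¹ m
  rw [h, inv_pow, hc, inv_one, mul_one] at h1
  have h2 : (∏ i ∈ Finset.range m, (χ ^ i) ⟨u, hu⟩ : N) = 1 := Subtype.ext h1.symm
  have h3 := hform (c ^ 2) m
  rw [hχc] at h3
  have h4 : (∏ i ∈ Finset.range m, ((χ ^ (m - 2)) ^ i) ⟨u, hu⟩ : N) = 1 := by
    rw [← h2]
    have h5 := prod_reindex (m := m) (k := m - 2) hm0 ?_ (fun i => (χ ^ i) (⟨u, hu⟩ : N)) ?_
    · rw [← h5]
      refine Finset.prod_congr rfl fun i _ => ?_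
      rw [← pow_mul]
    · -- coprime
      have h6 : Nat.Coprime 2 m := by rw [Nat.coprime_two_left]; exact ⟨k, hk⟩
      have h7 : Nat.Coprime (m - 2) m := by
        have h8 : m = (m - 2) + 2 := by omega
        conv_rhs => rw [h8]
        rw [Nat.coprime_self_add_right]
        have h9 : Nat.Coprime (m - 2) 2 := by
          rw [Nat.coprime_two_right]
          exact ⟨k - 1, by omega⟩
        exact h9
      exact h7
    · intro i
      have h6 : χ ^ (i % m) = χ ^ i := by
        conv_rhs => rw [← Nat.mod_add_div i m, pow_add, pow_mul, hχm, one_pow, mul_one]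
      change (χ ^ (i % m)) _ = (χ ^ i) _
      rw [h6]
  rw [h3, h4, ← pow_mul, mul_comm 2 m, pow_mul, hc, one_pow]
  simp

/-- **Baer–Suzuki.** -/
theorem mem_two_core [Finite Y] {b : Y}
    (hbad : ∀ y : Y, Odd (orderOf y) → (b * y * b⁻¹)⁻¹ * y = 1 ∨ 2 ∣ orderOf ((b * y * b⁻¹)⁻¹ * y))
    {N : Subgroup Y} [hNn : N.Normal] (hN : ∀ x ∈ N, x * x = 1) (hbb : b * b ∈ N) :
    ∃ M : Subgroup Y, M.Normal ∧ IsPGroup 2 M ∧ b ∈ M := by
  have hN2 : IsPGroup 2 N := fun x => ⟨1, by
    rw [pow_one, pow_two]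
    exact Subtype.ext (hN x x.2)⟩
  by_cases hb : b ∈ N
  · exact ⟨N, hNn, hN2, hb⟩
  by_contra hcon
  set π := QuotientGroup.mk' N with hπ
  have hπ1 : ∀ y : Y, π y = 1 ↔ y ∈ N := fun y => QuotientGroup.eq_one_iff y
  have hb1 : π b ≠ 1 := fun h => hb ((hπ1 b).1 h)
  have ho : orderOf (π b) = 2 := orderOf_eq_prime (by
    rw [← map_pow, pow_two]
    exact (hπ1 _).2 hbb) hb1
  obtain ⟨g, hg1, hgo, hg⟩ := Cfsg.Agent.S0200.result (π b) ho (fun M hM hM2 hbM => by
    refine hcon ⟨M.comap π, hM.comap π, ?_, hbM⟩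
    refine hM2.comap_of_ker_isPGroup π ?_
    rw [hπ, QuotientGroup.ker_mk']
    exact hN2)
  obtain ⟨c0, rfl⟩ := QuotientGroup.mk'_surjective N g
  obtain ⟨k, m, hm, hkm⟩ := Nat.exists_eq_pow_mul_and_not_dvd (orderOf_pos c0).ne' 2 (by norm_num)
  have hmodd : Odd m := by rw [← Nat.not_even_iff_odd, even_iff_two_dvd]; exact hm
  set c := c0 ^ 2 ^ k with hc
  have hcm : orderOf c = m := by
    rw [hc, orderOf_pow_of_dvd (pow_ne_zero _ (by norm_num)) (by rw [hkm]; exact dvd_mul_right _ _), hkm,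
      Nat.mul_div_cancel_left _ (pow_pos (by norm_num) _)]
  have hcm1 : c ^ m = 1 := by rw [← hcm]; exact pow_orderOf_eq_one c
  have hcπ : π c = (π c0) ^ 2 ^ k := by rw [hc, map_pow]
  have hcπ1 : π c ≠ 1 := by
    intro h1
    apply hg1
    rw [hcπ] at h1
    have h2 : orderOf (π c0) ∣ 2 ^ k := orderOf_dvd_of_pow_eq_one h1
    have h3 : Nat.Coprime (orderOf (π c0)) (2 ^ k) := Nat.Coprime.pow_right k (Nat.coprime_two_right.2 hgo)
    exact orderOf_eq_one_iff.1 (Nat.eq_one_of_dvd_coprimes h3 dvd_rfl h2)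
  have hinv : π b * π c * (π b)⁻¹ = (π c)⁻¹ := by
    rw [hcπ, ← inv_pow, ← hg, conj_pow]
  have hu : b * c * b⁻¹ * c ∈ N := by
    rw [← hπ1, map_mul, map_mul, map_mul, map_inv, hinv, inv_mul_cancel]
  set u := b * c * b⁻¹ * c with hudef
  have huc : b * c * b⁻¹ = u * c⁻¹ := by rw [hudef]; group
  have h1 : (u * c⁻¹) ^ m = 1 := by rw [← huc, conj_pow, hcm1]; group
  have h2 := norm_eq hN hu hmodd hcm1 h1
  have hui : u⁻¹ = u := inv_eq_of_mul_eq_one_left (hN u hu)
  have hw : (b * c * b⁻¹)⁻¹ * c = c * (u * c ^ 2) * c⁻¹ := by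
    rw [huc, mul_inv_rev, inv_inv, hui, pow_two]
    group
  have hwm : ((b * c * b⁻¹)⁻¹ * c) ^ m = 1 := by rw [hw, conj_pow, h2]; group
  rcases hbad c (by rw [hcm]; exact hmodd) with h3 | h3
  · have h4 : π ((b * c * b⁻¹)⁻¹ * c) = 1 := by rw [h3, map_one]
    rw [map_mul, map_inv, map_mul, map_mul, map_inv, hinv, inv_inv, ← pow_two] at h4
    have h5 : orderOf (π c) ∣ 2 := orderOf_dvd_of_pow_eq_one h4
    have h6 : orderOf (π c) ∣ m := orderOf_dvd_of_pow_eq_one (by rw [← map_pow, hcm1, map_one])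
    exact hcπ1 (orderOf_eq_one_iff.1 (Nat.eq_one_of_dvd_coprimes (Nat.coprime_two_left.2 hmodd) h5 h6))
  · have h4 := h3.trans (orderOf_dvd_of_pow_eq_one hwm)
    exact hm h4

end

end Cfsg.Agent.H383.W2
end

-- part: H383/W2/M22
section
prune_inst 0x20100000252210000000000020000421310001020060000000020000000109410000090032203110110aaa20200e0040011000c9021000000000020040040000000a62c212400100010000004805180c00000000000000000000000000000000000000000
set_option linter.all false
open scoped Cfsg.Agent.FastGrp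

/-!
# S4095 at the prime 2: the row of `M22` (helper383)
-/

set_option autoImplicit false

namespace Cfsg.Agent.H383.W2

open Cfsg Subgroup
open Cfsg.Agent.OddHalf.MM (Nrm Cen El)

universe u

section key

variable {A : Type*} [Group A] [Finite A] {K SA V W P : Subgroup A} {z : A}

theorem odd_mem (hK : K.index = 2) {y : A} (hy : Odd (orderOf y)) : y ∈ K := by
  obtain ⟨m, hm⟩ := hy
  have h1 := sq_mem_of_index_two hK y
  have h2 : y = (y ^ 2) ^ (m + 1) := by
    rw [← pow_mul, mul_add, mul_one, show 2 * m + 2 = (2 * m + 1) + 1 by rfl, ← hm, pow_succ, pow_orderOf_eq_one, one_mul]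
  rw [h2]
  exact K.pow_mem h1 _

/-- the Baer–Suzuki argument in a subgroup `Y` of `A` -/
theorem core_in {b : A} (hK : K.index = 2)
    (hbad : ∀ y ∈ K, (b * y * b⁻¹)⁻¹ * y = 1 ∨ 2 ∣ orderOf ((b * y * b⁻¹)⁻¹ * y)) {Y : Subgroup A} (hb : b ∈ Y)
    {N : Subgroup Y} (hNn : N.Normal) (hN : ∀ x ∈ N, x * x = 1) (hbb : (⟨b, hb⟩ : Y) * ⟨b, hb⟩ ∈ N) :
    ∃ M : Subgroup Y, M.Normal ∧ IsPGroup 2 M ∧ (⟨b, hb⟩ : Y) ∈ M := by
  refine mem_two_core (b := (⟨b, hb⟩ : Y)) ?_ hN hbb
  intro y hy
  have hyK : (y : A) ∈ K := odd_mem hK (by rw [Subgroup.orderOf_coe]; exact hy)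
  rcases hbad y hyK with h | h
  · left
    exact Subtype.ext h
  · right
    rw [← Subgroup.orderOf_coe]
    exact h

theorem key (H : Cfsg.Agent.OddHalf.MMOut.Sheet K SA V W P z) {b : A} (hbb : b * b = z)
    (hbad : ∀ y ∈ K, (b * y * b⁻¹)⁻¹ * y = 1 ∨ 2 ∣ orderOf ((b * y * b⁻¹)⁻¹ * y)) : False := by
  classical
  have hf2 : Fact (Nat.Prime 2) := ⟨Nat.prime_two⟩
  have hzz : z * z = 1 := H.elV z H.zV
  -- `z` is central in `SA`
  have hzc : ∀ s ∈ SA, s * z = z * s := by
    have : Nontrivial SA := by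
      rw [← Finite.one_lt_card_iff_nontrivial, H.cardSA]
      norm_num
    have h1 := H.two.center_nontrivial
    obtain ⟨y, hy⟩ := exists_ne (1 : center SA)
    have hyc := y.2
    rw [mem_center_iff] at hyc
    have h2 : ∀ s ∈ SA, s * ((y : SA) : A) = ((y : SA) : A) * s := fun s hs =>
      congrArg Subtype.val (hyc ⟨s, hs⟩)
    rcases H.cen _ (y : SA).2 h2 with h3 | h3
    · exact absurd (Subtype.ext (Subtype.ext h3)) hy
    · rw [h3] at h2
      exact h2
  -- `b ∈ SA`
  have hbSA : b ∈ SA := by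
    set Y := centralizer ({z} : Set A) with hY
    have hbY : b ∈ Y := by
      rw [hY, mem_centralizer_singleton_iff, ← hbb, mul_assoc]
    have hzY : z ∈ Y := mem_centralizer_singleton_iff.2 rfl
    set N : Subgroup Y := zpowers (⟨z, hzY⟩ : Y) with hNdef
    have hNn : N.Normal := by
      refine ⟨?_⟩
      rintro _ ⟨i, rfl⟩ g
      have h1 : Commute g (⟨z, hzY⟩ : Y) := Subtype.ext (mem_centralizer_singleton_iff.1 g.2)
      have h2 : g * (⟨z, hzY⟩ : Y) ^ i * g⁻¹ = (⟨z, hzY⟩ : Y) ^ i := by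
        rw [(h1.zpow_right i).eq, mul_inv_cancel_right]
      exact ⟨i, h2.symm⟩
    have hN : ∀ x ∈ N, x * x = 1 := by
      rintro _ ⟨i, rfl⟩
      change (⟨z, hzY⟩ : Y) ^ i * (⟨z, hzY⟩ : Y) ^ i = 1
      rw [← Commute.mul_zpow (Commute.refl _)]
      have h1 : (⟨z, hzY⟩ : Y) * ⟨z, hzY⟩ = 1 := Subtype.ext hzz
      rw [h1, one_zpow]
    obtain ⟨M, hMn, hM2, hbM⟩ := core_in H.idx hbad hbY hNn hN (by
      have h1 : (⟨b, hbY⟩ : Y) * ⟨b, hbY⟩ = ⟨z, hzY⟩ := Subtype.ext hbb
      rw [h1]
      exact mem_zpowers _)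
    have hSY : SA ≤ Y := fun s hs => mem_centralizer_singleton_iff.2 (hzc s hs)
    have h1 : IsPGroup 2 (SA.subgroupOf Y) := H.two.of_equiv (Subgroup.subgroupOfEquivOfLe hSY).symm
    have h2 : IsPGroup 2 (SA.subgroupOf Y ⊔ M : Subgroup Y) := IsPGroup.to_sup_of_normal_right h1 hM2
    have h3 : SA ≤ (SA.subgroupOf Y ⊔ M : Subgroup Y).map Y.subtype := by
      intro s hs
      exact ⟨⟨s, hSY hs⟩, (le_sup_left : SA.subgroupOf Y ≤ _) hs, rfl⟩
    have h4 := H.max _ (h2.map Y.subtype) h3
    rw [← h4]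
    exact ⟨⟨b, hbY⟩, (le_sup_right : M ≤ _) hbM, rfl⟩
  -- `b` normalizes `V`
  set Y := normalizer (V : Set A) with hY
  have hnorm : ∀ g : A, Nrm g V ↔ g ∈ Y := by
    intro g
    rw [hY, mem_normalizer_iff]
    constructor
    · intro h x
      exact (h x).symm
    · intro h x
      exact (h x).symm
  have hbY : b ∈ Y := (hnorm b).1 (H.nV b hbSA)
  have hNn : (V.subgroupOf Y).Normal := by
    refine ⟨fun x hx g => ?_⟩
    exact ((hnorm g).2 g.2 x).2 hx
  have hN : ∀ x ∈ V.subgroupOf Y, x * x = 1 := fun x hx => Subtype.ext (H.elV x hx)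
  obtain ⟨M, hMn, hM2, hbM⟩ := core_in H.idx hbad hbY hNn hN (by
    change b * b ∈ V
    rw [hbb]
    exact H.zV)
  -- `M` fixes a nontrivial element of `V`
  obtain ⟨v, hvV, hv1, hvM⟩ : ∃ v ∈ V, v ≠ 1 ∧ ∀ m ∈ M, (m : A) * v = v * m := by
    let act : MulAction M (V.subgroupOf Y) :=
      MulAction.compHom _ ((MulAut.conjNormal : Y →* MulAut (V.subgroupOf Y)).comp M.subtype)
    have hVY : V ≤ Y := by
      intro x hx
      rw [← hnorm]
      intro y
      constructor
      · intro h
        have h1 := V.mul_mem (V.mul_mem (V.inv_mem hx) h) hx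
        have h2 : x⁻¹ * (x * y * x⁻¹) * x = y := by group
        rwa [h2] at h1
      · intro h
        exact V.mul_mem (V.mul_mem hx h) (V.inv_mem hx)
    have hcard : Nat.card (V.subgroupOf Y) = 16 := by
      rw [← H.cardV]
      exact Nat.card_congr (Subgroup.subgroupOfEquivOfLe hVY).toEquiv
    have h1 : (1 : V.subgroupOf Y) ∈ MulAction.fixedPoints M (V.subgroupOf Y) := by
      intro m
      change (MulAut.conjNormal (m : Y) : MulAut (V.subgroupOf Y)) 1 = 1
      rw [map_one]
    obtain ⟨w, hw, hw1⟩ := hM2.exists_fixed_point_of_prime_dvd_card_of_fixed_point (V.subgroupOf Y)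
      (by rw [hcard]; norm_num) h1
    refine ⟨((w : Y) : A), w.2, fun h => hw1 (Subtype.ext (Subtype.ext h.symm)), fun m hm => ?_⟩
    have h2 := hw ⟨m, hm⟩
    have h3 : (MulAut.conjNormal m : MulAut (V.subgroupOf Y)) w = w := h2
    have h4 := congrArg (fun t : V.subgroupOf Y => ((t : Y) : A)) h3
    simp only [MulAut.conjNormal_apply] at h4
    have h5 : (m : A) * ((w : Y) : A) * (m : A)⁻¹ = ((w : Y) : A) := h4
    rw [mul_inv_eq_iff_eq_mul] at h5
    exact h5
  -- so `b` centralizes `V`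
  have hbC : Cen b V := by
    intro x hx
    by_cases hx1 : x = 1
    · rw [hx1, mul_one, one_mul]
    obtain ⟨k, hk, hkv⟩ := H.trV v hvV hv1
    obtain ⟨l, hl, hlx⟩ := H.trV x hx hx1
    -- `g = l k⁻¹` maps `v` to `x`
    set g : Y := ⟨l, (hnorm l).1 hl⟩ * ⟨k, (hnorm k).1 hk⟩⁻¹ with hg
    have hgx : (g : A) * v * (g : A)⁻¹ = x := by
      have h1 : (g : A) = l * k⁻¹ := rfl
      rw [h1, ← hkv, ← hlx]
      group
    have h1 := hMn.conj_mem _ hbM g⁻¹
    have h2 := hvM _ h1
    have h3 : (((g⁻¹ * ⟨b, hbY⟩ * g⁻¹⁻¹ : Y)) : A) = (g : A)⁻¹ * b * (g : A) := by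
      rw [inv_inv]
      rfl
    rw [h3] at h2
    rw [← hgx]
    calc b * ((g : A) * v * (g : A)⁻¹) = (g : A) * ((g : A)⁻¹ * b * (g : A) * v) * (g : A)⁻¹ := by group
      _ = (g : A) * (v * ((g : A)⁻¹ * b * (g : A))) * (g : A)⁻¹ := by rw [h2]
      _ = (g : A) * v * (g : A)⁻¹ * b := by group
  have h1 := H.elV b (H.CV b hbC)
  rw [hbb] at h1
  exact H.z1 h1

end key

open Cfsg.Agent.H509.Weak Cfsg.Agent.H516

/-- `FactA` for `M22` -/
theorem factA {L : Type u} [Group L] (h : Cfsg.Spor.IsoM22 L) : FactA L := by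
  obtain ⟨e⟩ := h
  obtain ⟨Q, hQ⟩ := q55
  have hQ' : Nat.card (Q.comap e.toMonoidHom) = 55 := by
    rw [← hQ]
    exact Nat.card_congr (e.toEquiv.subtypeEquiv fun _ => Iff.rfl)
  refine ⟨Q.comap e.toMonoidHom, by rw [hQ']; decide, fun w hw hw2 => Or.inr ?_⟩
  rw [hQ', Cfsg.Agent.H968.TwoTool.card_cent_congr e]
  exact cent_lt (e w) (by rw [MulEquiv.orderOf_eq]; exact hw) (by rw [MulEquiv.orderOf_eq]; exact hw2)

/-- **The row of `M22` at the prime 2.** -/
theorem row {L : Type u} [Group L] [Finite L] (h : Cfsg.Spor.IsoM22 L) (B : Cfsg.Agent.H509.Weak.Base L) :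
    Cfsg.Agent.H516.Row 2 L := by
  rw [row_iff]
  intro a ha
  by_contra hne
  have W : Wk a := { B with bad := ha, ne := hne }
  have hc := W.center
  obtain ⟨n, hn⟩ := W.two_of_factA (factA h)
  obtain ⟨s, hs⟩ := W.sq a
  have hs1 : s ≠ 1 := by
    rintro rfl
    rw [map_one] at hs
    exact W.sq_ne_one hs
  -- `s` is an involution
  have hss : s * s = 1 := by
    obtain ⟨e⟩ := h
    by_contra hss
    have h1 : s ^ 2 ^ n = 1 := by
      apply conj_injective hc
      rw [map_pow, ← hs, map_one, ← pow_two, ← pow_mul, mul_comm, pow_mul, hn, one_pow]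
    have h2 : (e s) ^ 2 ^ n = 1 := by rw [← map_pow, h1, map_one]
    have h3 : e s * e s ≠ 1 := by
      intro h3
      rw [← map_mul, MulEquiv.map_eq_one_iff] at h3
      exact hss h3
    have h4 := cent_lt_two h2 h3
    rw [← Cfsg.Agent.H968.TwoTool.card_cent_congr e] at h4
    obtain ⟨Q, hQ⟩ := q55
    have hQ' : Nat.card (Q.comap e.toMonoidHom) = 55 := by
      rw [← hQ]
      exact Nat.card_congr (e.toEquiv.subtypeEquiv fun _ => Iff.rfl)
    have h5 := W.card_le (Q := Q.comap e.toMonoidHom) (by rw [hQ']; decide)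
    have h6 : fixedSubgroup a ≤ centralizer ({s} : Set L) := by
      intro x hx
      have h7 : a x = x := hx
      have h8 : (a * a) x = x := by
        change a (a x) = x
        rw [h7, h7]
      rw [hs, MulAut.conj_apply, mul_inv_eq_iff_eq_mul] at h8
      rw [mem_centralizer_singleton_iff]
      exact h8.symm
    have h7 := card_le_of_le h6
    omega
  -- in the automorphism group
  have hfin : Finite (MulAut L) := Finite.of_injective (fun f : MulAut L => (f : L → L)) DFunLike.coe_injective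
  obtain ⟨SA, V, W', P, z, H⟩ := Cfsg.Agent.KFacts.MM.OutEnd.sheet h
  have hRn : ((MulAut.conj : L →* MulAut L).range).Normal := by
    refine ⟨?_⟩
    rintro _ ⟨t, rfl⟩ b
    exact ⟨b t, (aut_conj b t).symm⟩
  have hbad : ∀ y ∈ (MulAut.conj : L →* MulAut L).range,
      (a * y * a⁻¹)⁻¹ * y = 1 ∨ 2 ∣ orderOf ((a * y * a⁻¹)⁻¹ * y) := by
    rintro _ ⟨t, rfl⟩
    rw [aut_conj, ← map_inv, ← map_mul, orderOf_injective _ (conj_injective hc)]
    rcases ha t with h1 | h1
    · left
      rw [h1, map_one]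
    · exact Or.inr h1
  obtain ⟨g, hg⟩ := H.inv (a * a) ⟨s, hs.symm⟩ (by rw [hs, ← map_mul, hss, map_one]) W.sq_ne_one
  refine key H (b := g⁻¹ * a * g) ?_ ?_
  · calc g⁻¹ * a * g * (g⁻¹ * a * g) = g⁻¹ * (a * a) * g := by group
      _ = g⁻¹ * (g * z * g⁻¹) * g := by rw [hg]
      _ = z := by group
  · intro y hy
    have h1 : (g⁻¹ * a * g * y * (g⁻¹ * a * g)⁻¹)⁻¹ * y =
        g⁻¹ * ((a * (g * y * g⁻¹) * a⁻¹)⁻¹ * (g * y * g⁻¹)) * g⁻¹⁻¹ := by group
    rw [h1]
    have h2 : orderOf (g⁻¹ * ((a * (g * y * g⁻¹) * a⁻¹)⁻¹ * (g * y * g⁻¹)) * g⁻¹⁻¹) =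
        orderOf ((a * (g * y * g⁻¹) * a⁻¹)⁻¹ * (g * y * g⁻¹)) :=
      MulEquiv.orderOf_eq (MulAut.conj g⁻¹) _
    rw [h2]
    rcases hbad (g * y * g⁻¹) (hRn.conj_mem _ hy g) with h3 | h3
    · left
      rw [h3]
      group
    · exact Or.inr h3

end Cfsg.Agent.H383.W2
end

-- part: H689/Fisch/Trans
section
prune_inst 0x20100400352210000018000022000421310001020060000020420000004109412044090132603110911aae70280e8040011001c9421000002a008a0040040000040a62c292481100010000404805180c00000000000000000000000000000000000000000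
set_option linter.all false
open scoped Cfsg.Agent.FastGrp

/-!
# Automorphisms of classes of 3-transpositions (helper689)

`D` a set of involutions, closed under conjugation by its members, two members commute or satisfy the braid relation
`a b a = b a b`; `α` an injective multiplicative map with `α D ⊆ D`.

* `path_five` : a Coxeter element of `A₄` has order 5;
* `tri_nine` : the product of the four generators of `G(3,3,4)` has order 9;
* `Sys.fix_all` : **if no product `(α (d f))⁻¹ * (d f) ≠ 1`, `d, f ∈ D`, has odd order, then `α` is trivial on `D`.**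
-/

set_option autoImplicit false

namespace Cfsg.Agent.H689.Fisch

section Words

variable {G : Type*} [Group G]

theorem path_five {p q r s : G} (hp : p * p = 1) (hq : q * q = 1) (hr : r * r = 1) (hs : s * s = 1)
    (hpq : p * q * p = q * p * q) (hqr : q * r * q = r * q * r) (hrs : r * s * r = s * r * s)
    (hpr : Commute p r) (hps : Commute p s) (hqs : Commute q s) : (p * q * r * s) ^ 5 = 1 := by
  have ep : ∀ x, p * (p * x) = x := fun x => by rw [← mul_assoc, hp, one_mul]
  have eq' : ∀ x, q * (q * x) = x := fun x => by rw [← mul_assoc, hq, one_mul]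
  have er : ∀ x, r * (r * x) = x := fun x => by rw [← mul_assoc, hr, one_mul]
  have es : ∀ x, s * (s * x) = x := fun x => by rw [← mul_assoc, hs, one_mul]
  have b1 : ∀ x, q * (p * (q * x)) = p * (q * (p * x)) := fun x => by
    have := congrArg (· * x) hpq.symm
    simpa only [mul_assoc] using this
  have b2 : ∀ x, r * (q * (r * x)) = q * (r * (q * x)) := fun x => by
    have := congrArg (· * x) hqr.symm
    simpa only [mul_assoc] using this
  have b3 : ∀ x, s * (r * (s * x)) = r * (s * (r * x)) := fun x => by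
    have := congrArg (· * x) hrs.symm
    simpa only [mul_assoc] using this
  have c1 : ∀ x, r * (p * x) = p * (r * x) := fun x => by rw [← mul_assoc, ← hpr.eq, mul_assoc]
  have c2 : ∀ x, s * (p * x) = p * (s * x) := fun x => by rw [← mul_assoc, ← hps.eq, mul_assoc]
  have c3 : ∀ x, s * (q * x) = q * (s * x) := fun x => by rw [← mul_assoc, ← hqs.eq, mul_assoc]
  have l1 : ∀ x, r * (q * (p * (r * x))) = q * (r * (q * (p * x))) := fun x => by rw [← c1, b2]
  have l2 : ∀ x, s * (r * (q * (s * x))) = r * (s * (r * (q * x))) := fun x => by rw [← c3, b3]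
  have l3 : ∀ x, s * (r * (q * (p * (s * x)))) = r * (s * (r * (q * (p * x)))) := fun x => by
    rw [← c2, ← c3, b3]
  have key : ∀ x : G, p * (q * (r * (s * (p * (q * (r * (s * (p * (q * (r * (s * (p * (q * (r * (s * (p * (q * (r *
      (s * x))))))))))))))))))) = x := by
    intro x
    simp only [ep, eq', er, es, b1, b2, b3, c1, c2, c3, l1, l2, l3]
  have h := key 1
  rw [mul_one] at h
  simpa only [pow_succ, pow_zero, one_mul, mul_assoc] using h

/-- the product of two involutions satisfying the braid relation -/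
theorem braid_cube {a b : G} (ha : a * a = 1) (hb : b * b = 1) (h : a * b * a = b * a * b) : (a * b) ^ 3 = 1 := by
  calc (a * b) ^ 3 = (a * b * a) * (b * a * b) := by simp only [pow_succ, pow_zero, one_mul, mul_assoc]
    _ = (b * a * b) * (b * a * b) := by rw [h]
    _ = b * a * (b * b) * a * b := by simp only [mul_assoc]
    _ = 1 := by rw [hb, mul_one, mul_assoc b a a, ha, mul_one, hb]

theorem tri_nine {a b c e : G} (ha : a * a = 1) (hb : b * b = 1) (hc : c * c = 1) (he : e * e = 1)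
    (hab : a * b * a = b * a * b) (hac : a * c * a = c * a * c) (hbc : b * c * b = c * b * c)
    (hce : c * e * c = e * c * e) (hae : Commute a e) (hbe : Commute b e)
    (h1 : (b * a * b) * c * (b * a * b) = c * (b * a * b) * c) : (e * a * b * c) ^ 9 = 1 := by
  have ia : a⁻¹ = a := inv_eq_of_mul_eq_one_left ha
  have ib : b⁻¹ = b := inv_eq_of_mul_eq_one_left hb
  have ic : c⁻¹ = c := inv_eq_of_mul_eq_one_left hc
  have ie : e⁻¹ = e := inv_eq_of_mul_eq_one_left he
  obtain ⟨u, hu⟩ : ∃ u, u = a * b := ⟨_, rfl⟩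
  obtain ⟨r, hr⟩ : ∃ r, r = a * c := ⟨_, rfl⟩
  have u3 : u ^ 3 = 1 := by rw [hu]; exact braid_cube ha hb hab
  have r3 : r ^ 3 = 1 := by rw [hr]; exact braid_cube ha hc hac
  have q1 : (u⁻¹ * r) ^ 3 = 1 := by
    have h2 : u⁻¹ * r = b * c := by
      rw [hu, hr, mul_inv_rev, ia, ib, ← mul_assoc, mul_assoc b a a, ha, mul_one]
    rw [h2]
    exact braid_cube hb hc hbc
  have q2 : (u * r) ^ 3 = 1 := by
    have h2 : u * r = (b * a * b) * c := by
      rw [hu, hr, ← hab]
      simp only [mul_assoc]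
    rw [h2]
    refine braid_cube ?_ hc h1
    calc b * a * b * (b * a * b) = b * a * (b * b) * a * b := by simp only [mul_assoc]
      _ = 1 := by rw [hb, mul_one, mul_assoc b a a, ha, mul_one, hb]
  have r2 : r * r = r⁻¹ := by
    rw [eq_inv_iff_mul_eq_one]
    simpa only [pow_succ, pow_zero, one_mul, mul_assoc] using r3
  -- `u` commutes with `r u r⁻¹`
  have q3 : Commute u (r * u * r⁻¹) := by
    have e1 : u * (r * u * r⁻¹) * (r⁻¹ * u * r) = 1 := by
      calc u * (r * u * r⁻¹) * (r⁻¹ * u * r) = u * r * u * (r⁻¹ * r⁻¹) * u * r := by simp only [mul_assoc]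
        _ = (u * r) ^ 3 := by
          rw [show r⁻¹ * r⁻¹ = r by rw [← mul_inv_rev, r2, inv_inv]]
          simp only [pow_succ, pow_zero, one_mul, mul_assoc]
        _ = 1 := q2
    have e2 : u⁻¹ * (r * u⁻¹ * r⁻¹) * (r⁻¹ * u⁻¹ * r) = 1 := by
      calc u⁻¹ * (r * u⁻¹ * r⁻¹) * (r⁻¹ * u⁻¹ * r) = u⁻¹ * r * u⁻¹ * (r⁻¹ * r⁻¹) * u⁻¹ * r := by
            simp only [mul_assoc]
        _ = (u⁻¹ * r) ^ 3 := by
          rw [show r⁻¹ * r⁻¹ = r by rw [← mul_inv_rev, r2, inv_inv]]
          simp only [pow_succ, pow_zero, one_mul, mul_assoc]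
        _ = 1 := q1
    have e3 : (r⁻¹ * u * r) * (r * u * r⁻¹) * u = 1 := by
      have h2 := congrArg (·⁻¹) e2
      simp only [mul_inv_rev, inv_inv, inv_one] at h2
      rw [← h2]
      simp only [mul_assoc]
    have e4 : u * (r * u * r⁻¹) = (r⁻¹ * u * r)⁻¹ := eq_inv_of_mul_eq_one_left e1
    have e5 : (r * u * r⁻¹) * u = (r⁻¹ * u * r)⁻¹ := by
      rw [mul_assoc] at e3
      exact eq_inv_of_mul_eq_one_right e3
    exact e4.trans e5.symm
  -- `u` commutes with `t = c u c`
  have q4 : Commute u (c * u * c) := by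
    have h2 : a * u * a = u⁻¹ := by rw [hu, mul_inv_rev, ia, ib, ← mul_assoc, ha, one_mul]
    have h3 : a * (r * u * r⁻¹) * a = c * u * c := by
      rw [hr, mul_inv_rev, ia, ic]
      calc a * (a * c * u * (c * a)) * a = (a * a) * c * u * c * (a * a) := by simp only [mul_assoc]
        _ = c * u * c := by rw [ha, one_mul, mul_one]
    have h4 : Commute (a * u * a) (a * (r * u * r⁻¹) * a) := by
      show a * u * a * (a * (r * u * r⁻¹) * a) = a * (r * u * r⁻¹) * a * (a * u * a)
      calc a * u * a * (a * (r * u * r⁻¹) * a) = a * (u * (a * a) * (r * u * r⁻¹)) * a := by simp only [mul_assoc]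
        _ = a * (u * (r * u * r⁻¹)) * a := by rw [ha, mul_one]
        _ = a * ((r * u * r⁻¹) * u) * a := by rw [q3.eq]
        _ = a * ((r * u * r⁻¹) * (a * a) * u) * a := by rw [ha, mul_one]
        _ = _ := by simp only [mul_assoc]
    rw [h2, h3] at h4
    exact Commute.inv_left_iff.1 h4
  obtain ⟨t, ht⟩ : ∃ t, t = c * u * c := ⟨_, rfl⟩
  obtain ⟨v, hv⟩ : ∃ v, v = e * t * e := ⟨_, rfl⟩
  rw [← ht] at q4
  have ue : Commute u e := by rw [hu]; exact hae.mul_left hbe
  have eue : e * u * e = u := by rw [← ue.eq, mul_assoc, he, mul_one]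
  have cj : ∀ {g x y : G}, g * g = 1 → Commute x y → Commute (g * x * g) (g * y * g) := by
    intro g x y hg h
    show g * x * g * (g * y * g) = g * y * g * (g * x * g)
    calc g * x * g * (g * y * g) = g * (x * (g * g) * y) * g := by simp only [mul_assoc]
      _ = g * (x * y) * g := by rw [hg, mul_one]
      _ = g * (y * x) * g := by rw [h.eq]
      _ = g * (y * (g * g) * x) * g := by rw [hg, mul_one]
      _ = _ := by simp only [mul_assoc]
  have q5 : Commute u v := by
    have h2 := cj he q4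
    rwa [eue, ← hv] at h2
  have cvc : c * v * c = v := by
    rw [hv, ht]
    calc c * (e * (c * u * c) * e) * c = (c * e * c) * u * (c * e * c) := by simp only [mul_assoc]
      _ = (e * c * e) * u * (e * c * e) := by rw [hce]
      _ = e * c * (e * u * e) * c * e := by simp only [mul_assoc]
      _ = e * (c * u * c) * e := by rw [eue]; simp only [mul_assoc]
  have q6 : Commute t v := by
    have h2 := cj hc q5
    rwa [cvc, ← ht] at h2
  -- the cube
  have hw : e * a * b * c = u * (e * c) := by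
    rw [← mul_assoc, ue.eq, hu]
    simp only [mul_assoc]
  have ec3 : (e * c) ^ 3 = 1 := braid_cube he hc hce.symm
  have k1 : (e * c) * u = v * (e * c) := by
    rw [hv, ht]
    calc e * c * u = e * c * u * (c * c) := by rw [hc, mul_one]
      _ = e * (c * u * c) * (e * e) * c := by rw [he, mul_one]; simp only [mul_assoc]
      _ = _ := by simp only [mul_assoc]
  have k2 : (e * c) * v = t * (e * c) := by
    calc e * c * v = e * (c * v * c) * c := by
          calc e * c * v = e * c * v * (c * c) := by rw [hc, mul_one]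
            _ = _ := by simp only [mul_assoc]
      _ = e * v * c := by rw [cvc]
      _ = (e * e) * t * e * c := by rw [hv]; simp only [mul_assoc]
      _ = t * (e * c) := by rw [he, one_mul, mul_assoc]
  have hcube : (e * a * b * c) ^ 3 = u * v * t := by
    rw [hw]
    calc (u * (e * c)) ^ 3 = u * ((e * c) * u) * ((e * c) * u) * (e * c) := by
          simp only [pow_succ, pow_zero, one_mul, mul_assoc]
      _ = u * v * ((e * c) * v) * (e * c) * (e * c) := by rw [k1]; simp only [mul_assoc]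
      _ = u * v * t * ((e * c) * (e * c) * (e * c)) := by rw [k2]; simp only [mul_assoc]
      _ = u * v * t := by
        have h3 : (e * c) * (e * c) * (e * c) = 1 := by
          rw [← ec3]
          simp only [pow_succ, pow_zero, one_mul]
        rw [h3, mul_one]
  have t3 : t ^ 3 = 1 := by
    have h2 : t = MulAut.conj c u := by rw [MulAut.conj_apply, ic]; exact ht
    rw [h2, ← map_pow, u3, map_one]
  have v3 : v ^ 3 = 1 := by
    have h2 : v = MulAut.conj e t := by rw [MulAut.conj_apply, ie]; exact hv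
    rw [h2, ← map_pow, t3, map_one]
  rw [show 9 = 3 * 3 from rfl, pow_mul, hcube, (Commute.mul_left q4 q6.symm).mul_pow, q5.mul_pow, u3, v3, t3, one_mul,
    one_mul]

theorem pow_of_conj {x y : G} {n : ℕ} (g : G) (h : x = g * y * g⁻¹) (hy : y ^ n = 1) : x ^ n = 1 := by
  rw [h, ← MulAut.conj_apply, ← map_pow, hy, map_one]

/-- four orders of the factors of a Coxeter element -/
theorem path_a {p q r s : G} (hp : p * p = 1) (hq : q * q = 1) (hr : r * r = 1) (hs : s * s = 1)
    (hpq : p * q * p = q * p * q) (hqr : q * r * q = r * q * r) (hrs : r * s * r = s * r * s)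
    (hpr : Commute p r) (hps : Commute p s) (hqs : Commute q s) : (r * s * q * p) ^ 5 = 1 := by
  refine pow_of_conj (r * s * p) ?_ (path_five hp hq hr hs hpq hqr hrs hpr hps hqs)
  have h1 : (r * s) * p⁻¹ * (r * s)⁻¹ = p := by
    rw [inv_eq_of_mul_eq_one_left hp, ← (hpr.mul_right hps).eq, mul_assoc, mul_inv_cancel, mul_one]
  calc r * s * q * p = r * s * q * ((r * s) * p⁻¹ * (r * s)⁻¹) := by rw [h1]
    _ = r * s * (p * p) * q * (r * s) * p⁻¹ * (r * s)⁻¹ := by rw [hp, mul_one]; simp only [mul_assoc]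
    _ = _ := by rw [mul_inv_rev (r * s) p]; simp only [mul_assoc]

theorem path_b {p q r s : G} (hp : p * p = 1) (hq : q * q = 1) (hr : r * r = 1) (hs : s * s = 1)
    (hpq : p * q * p = q * p * q) (hqr : q * r * q = r * q * r) (hrs : r * s * r = s * r * s)
    (hpr : Commute p r) (hps : Commute p s) (hqs : Commute q s) : (r * s * p * q) ^ 5 = 1 := by
  refine pow_of_conj (r * s) ?_ (path_five hp hq hr hs hpq hqr hrs hpr hps hqs)
  calc r * s * p * q = r * s * (p * q) * ((r * s) * (r * s)⁻¹) := by rw [mul_inv_cancel, mul_one, mul_assoc (r * s)]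
    _ = _ := by simp only [mul_assoc]

theorem path_c {p q r s : G} (hp : p * p = 1) (hq : q * q = 1) (hr : r * r = 1) (hs : s * s = 1)
    (hpq : p * q * p = q * p * q) (hqr : q * r * q = r * q * r) (hrs : r * s * r = s * r * s)
    (hpr : Commute p r) (hps : Commute p s) (hqs : Commute q s) : (p * r * s * q) ^ 5 = 1 := by
  refine pow_of_conj p⁻¹ ?_ (pow_of_conj (p * q⁻¹) (x := p * (p * r * s * q) * p⁻¹) ?_
    (pow_of_conj p⁻¹ (x := q * r * s * p) ?_ (path_five hp hq hr hs hpq hqr hrs hpr hps hqs)))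
  · group
  · have h1 : p * (r * s) = r * s * p := (hpr.mul_right hps).eq
    calc p * (p * r * s * q) * p⁻¹ = p * (p * (r * s)) * q * p⁻¹ := by simp only [mul_assoc]
      _ = p * (r * s * p) * q * p⁻¹ := by rw [h1]
      _ = p * q⁻¹ * (q * r * s * p) * (p * q⁻¹)⁻¹ := by group
  · group

theorem path_d {p q r s : G} (hp : p * p = 1) (hq : q * q = 1) (hr : r * r = 1) (hs : s * s = 1)
    (hpq : p * q * p = q * p * q) (hqr : q * r * q = r * q * r) (hrs : r * s * r = s * r * s)
    (hpr : Commute p r) (hps : Commute p s) (hqs : Commute q s) : (r * p * q * s) ^ 5 = 1 := by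
  have h : r * p * q * s = p * r * s * q := by
    rw [← hpr.eq, mul_assoc _ q, hqs.eq]
    simp only [mul_assoc]
  rw [h]
  exact path_c hp hq hr hs hpq hqr hrs hpr hps hqs

end Words

/-- a class of 3-transpositions -/
structure Sys {G : Type*} [Group G] (D : Set G) : Prop where
  sq : ∀ d ∈ D, d * d = 1
  conj : ∀ d ∈ D, ∀ e ∈ D, e * d * e ∈ D
  three : ∀ d ∈ D, ∀ e ∈ D, Commute d e ∨ d * e * d = e * d * e
  sep : ∀ f ∈ D, ∀ f' ∈ D, f' ≠ f → Commute f f' → ∃ g ∈ D, Commute g f' ∧ ¬ Commute g f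
  com : ∀ d ∈ D, ∀ d' ∈ D, ¬ Commute d d' → ∃ f ∈ D, Commute f d ∧ Commute f d'

namespace Sys

variable {G : Type*} [Group G] {D : Set G} (S : Sys D) (α : G ≃* G)
include S

omit S in
theorem comm_map {x y : G} : Commute (α x) (α y) ↔ Commute x y := by
  constructor
  · intro h
    have h1 := h.map α.symm
    simpa using h1
  · intro h
    exact h.map α

theorem word_eq {d f : G} (hd : α d ∈ D) (hf : α f ∈ D) : (α (d * f))⁻¹ * (d * f) = α f * α d * d * f := by
  rw [map_mul, mul_inv_rev, inv_eq_of_mul_eq_one_left (S.sq _ hd), inv_eq_of_mul_eq_one_left (S.sq _ hf)]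
  simp only [mul_assoc]

variable (hα : ∀ d ∈ D, α d ∈ D)
  (bad : ∀ d ∈ D, ∀ f ∈ D, ∀ n : ℕ, Odd n → ((α (d * f))⁻¹ * (d * f)) ^ n = 1 → (α (d * f))⁻¹ * (d * f) = 1)
include hα bad

/-- no member of `D` is moved to a commuting one -/
theorem step_one {f : G} (hf : f ∈ D) (hc : Commute (α f) f) : α f = f := by
  by_contra hne
  obtain ⟨g, hg, hgf', hgf⟩ := S.sep f hf (α f) (hα f hf) hne hc.symm
  have hw := S.word_eq α (hα f hf) (hα g hg)
  have bad' : ∀ n : ℕ, Odd n → (α g * α f * f * g) ^ n = 1 → α g * α f * f * g = 1 := by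
    intro n hn h
    rw [← hw] at h ⊢
    exact bad f hf g hg n hn h
  have hf2 := S.sq f hf
  have hg2 := S.sq g hg
  have hf2' := S.sq _ (hα f hf)
  have hg2' := S.sq _ (hα g hg)
  have b1 : f * g * f = g * f * g := (S.three f hf g hg).resolve_left fun h => hgf h.symm
  have hgf2 : ¬ Commute (α g) (α f) := fun h => hgf ((comm_map α).1 h)
  have b2 : α f * α g * α f = α g * α f * α g := by rw [← map_mul, ← map_mul, b1, map_mul, map_mul]
  have hfg : ¬ Commute f g := fun h => hgf h.symm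
  have nt : α g * α f * f * g ≠ 1 := by
    intro h
    -- `g'f' = g f`
    have h1 : α g * α f = g * f := by
      have h2 : (α g * α f) * (f * g) = 1 := by rw [← mul_assoc]; exact h
      rw [eq_inv_of_mul_eq_one_left h2, mul_inv_rev, inv_eq_of_mul_eq_one_left hf2, inv_eq_of_mul_eq_one_left hg2]
    -- `f'` commutes with `g f`
    have h2 : Commute (α f) (g * f) := hgf'.symm.mul_right hc
    rw [← h1] at h2
    have h3 : Commute (α f) (α g) := by
      have h4 := h2.mul_right (Commute.refl (α f))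
      rwa [mul_assoc, hf2', mul_one] at h4
    exact hgf2 h3.symm
  rcases S.three g hg (α g) (hα g hg) with h1 | h1
  · rcases S.three f hf (α g) (hα g hg) with h2 | h2
    · -- both pairs commute
      refine nt (bad' 3 (by decide) ?_)
      have h3 : Commute (α g * α f) (f * g) :=
        Commute.mul_left (h2.symm.mul_right h1.symm) (hc.mul_right hgf'.symm)
      rw [mul_assoc, h3.mul_pow, braid_cube hg2' hf2' b2.symm, braid_cube hf2 hg2 b1, one_mul]
    · exact nt (bad' 5 (by decide) (path_a hg2 hf2 hg2' hf2' b1.symm h2 b2.symm h1 hgf' hc.symm))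
  · rcases S.three f hf (α g) (hα g hg) with h2 | h2
    · exact nt (bad' 5 (by decide) (path_b hf2 hg2 hg2' hf2' b1 h1 b2.symm h2 hc.symm hgf'))
    · -- the triangle
      have ha1 : g * f * g ∈ D := S.conj f hf g hg
      have key : ∀ n : ℕ, (α f * f * g * α g) ^ n = 1 → (α g * α f * f * g) ^ n = 1 := by
        intro n hn
        refine pow_of_conj (α g) ?_ hn
        rw [mul_assoc _ (α f * f * g * α g), mul_assoc _ (α g), mul_inv_cancel, mul_one]
        simp only [mul_assoc]
      rcases S.three _ ha1 (α g) (hα g hg) with h3 | h3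
      · refine nt (bad' 5 (by decide) (key 5 ?_))
        have h4 : α f * f * g * α g = α f * g * (g * f * g) * α g := by
          have h5 : g * (g * f * g) = f * g := by
            rw [← mul_assoc, ← mul_assoc, hg2, one_mul]
          rw [mul_assoc (α f) g, h5]
          simp only [mul_assoc]
        rw [h4]
        have h6 : (g * f * g) * (g * f * g) = 1 := S.sq _ ha1
        have h7 : g * (g * f * g) * g = (g * f * g) * g * (g * f * g) := by
          have e1 : g * (g * f * g) * g = f := by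
            calc g * (g * f * g) * g = (g * g) * f * (g * g) := by simp only [mul_assoc]
              _ = f := by rw [hg2, one_mul, mul_one]
          have e2 : (g * f * g) * g * (g * f * g) = f := by
            calc (g * f * g) * g * (g * f * g) = g * f * (g * g) * g * f * g := by simp only [mul_assoc]
              _ = g * (f * g * f) * g := by rw [hg2, mul_one]; simp only [mul_assoc]
              _ = g * (g * f * g) * g := by rw [b1]
              _ = f := e1
          rw [e1, e2]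
        exact path_c hf2' hg2' hg2 h6 b2 h1.symm h7 hgf'.symm
          ((hgf'.symm.mul_right hc).mul_right hgf'.symm) h3.symm
      · exact nt (bad' 9 (by decide) (key 9 (tri_nine hf2 hg2 hg2' hf2' b1 h2 h1 b2.symm hc.symm hgf' h3)))

/-- **The automorphism is trivial on `D`.** -/
theorem fix_all {d : G} (hd : d ∈ D) : α d = d := by
  by_contra hne
  have hnc : ¬ Commute (α d) d := fun h => hne (S.step_one α hα bad hd h)
  obtain ⟨f, hf, hfd, hfd'⟩ := S.com d hd (α d) (hα d hd) fun h => hnc h.symm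
  have hw := S.word_eq α (hα d hd) (hα f hf)
  have bad' : ∀ n : ℕ, Odd n → (α f * α d * d * f) ^ n = 1 → α f * α d * d * f = 1 := by
    intro n hn h
    rw [← hw] at h ⊢
    exact bad d hd f hf n hn h
  have hf2 := S.sq f hf
  have hd2 := S.sq d hd
  have hf2' := S.sq _ (hα f hf)
  have hd2' := S.sq _ (hα d hd)
  have b1 : α d * d * α d = d * α d * d := (S.three _ (hα d hd) d hd).resolve_left hnc
  have h1 : Commute (α f) (α d) := (comm_map α).2 hfd
  have nt : α f * α d * d * f ≠ 1 := by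
    intro h
    -- `f' d' = f d`
    have h1' : α f * α d = f * d := by
      have h2 : (α f * α d) * (d * f) = 1 := by rw [← mul_assoc]; exact h
      rw [eq_inv_of_mul_eq_one_left h2, mul_inv_rev, inv_eq_of_mul_eq_one_left hf2, inv_eq_of_mul_eq_one_left hd2]
    -- `d'` commutes with `f d`
    have h2 : Commute (α d) (f * d) := by
      rw [← h1']
      exact h1.symm.mul_right (Commute.refl _)
    have h3 : Commute (α d) d := by
      have h4 := hfd'.symm.mul_right h2
      rwa [← mul_assoc, hf2, one_mul] at h4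
    exact hnc h3
  by_cases hcf : Commute (α f) f
  · have h2 := S.step_one α hα bad hf hcf
    refine nt (bad' 3 (by decide) ?_)
    rw [h2]
    refine pow_of_conj f ?_ (braid_cube hd2' hd2 b1)
    rw [inv_eq_of_mul_eq_one_left hf2]
    simp only [mul_assoc]
  · have b2 : α f * f * α f = f * α f * f := (S.three _ (hα f hf) f hf).resolve_left hcf
    rcases S.three d hd (α f) (hα f hf) with h2 | h2
    · refine nt (bad' 3 (by decide) ?_)
      have h3 : α f * α d * d * f = (α f * f) * (α d * d) := by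
        have h4 : Commute (α d * d) f := Commute.mul_left hfd'.symm hfd.symm
        calc α f * α d * d * f = α f * ((α d * d) * f) := by simp only [mul_assoc]
          _ = α f * (f * (α d * d)) := by rw [h4.eq]
          _ = _ := by simp only [mul_assoc]
      have h5 : Commute (α f * f) (α d * d) :=
        Commute.mul_left (h1.mul_right h2.symm) (hfd'.mul_right hfd)
      rw [h3, h5.mul_pow, braid_cube hf2' hf2 b2, braid_cube hd2' hd2 b1, one_mul]
    · exact nt (bad' 5 (by decide) (path_d hd2' hd2 hf2' hf2 b1 h2 b2 h1.symm hfd'.symm hfd.symm))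

end Sys

end Cfsg.Agent.H689.Fisch
end

-- part: H689/Fisch/RowFi24
section
set_option linter.all false
open scoped Cfsg.Agent.FastGrp

/-!
# S4095, `p = 2`: the row `Fi24'` (helper689)

The bad automorphism is conjugation by an element of `Fi24`; it acts on the class of 3-transpositions, and the products of
two 3-transpositions are in `Fi24'` (`Sys.fix_all`).
-/

set_option autoImplicit false

namespace Cfsg.Agent.H689.Fisch

open Cfsg Cfsg.Agent.H516 Subgroup
open Cfsg.Agent.Fischer.Abstract Cfsg.Agent.LThreeM.SrgFix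
open Cfsg.Agent.R08.FiTwentyFour (L finite_Fi24 card_commutator)
open Cfsg.Agent.R08
open Cfsg.Spor (Fi24)

universe u

theorem sys_fi24 : Sys (L : Set Fi24) where
  sq d hd := FiTwentyFour.sq hd
  conj d hd e he := by
    have h := FiTwentyFour.conj hd e
    rwa [inv_eq_of_mul_eq_one_left (FiTwentyFour.sq he)] at h
  three d hd e he := FiTwentyFour.three hd he
  sep f hf f' hf' hne hc := by
    have := finite_Fi24
    by_contra hcon
    push Not at hcon
    have h1 := TetBigInst.hyp.n1 f' hf'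
    have h2 := TetBigInst.hyp.n2 f hf f' hf' hne.symm hc
    have h3 : {c | c ∈ (L : Set Fi24) ∧ c ≠ f' ∧ Commute c f'} ⊆
        insert f {c | c ∈ (L : Set Fi24) ∧ c ≠ f ∧ c ≠ f' ∧ Commute c f ∧ Commute c f'} := by
      rintro c ⟨h4, h5, h6⟩
      by_cases hcf : c = f
      · exact Or.inl hcf
      · exact Or.inr ⟨h4, hcf, h5, hcon c h4 h6, h6⟩
    have h4 := (Set.ncard_le_ncard h3 (Set.toFinite _)).trans (Set.ncard_insert_le _ _)
    rw [h1, h2] at h4
    omega
  com d hd d' hd' hn := by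
    have := finite_Fi24
    obtain ⟨R, -, -, hR⟩ := FiTwentyFour.facts.exists_rank3
    have hfX : Finite (Fi24 ⧸ Cfsg.Agent.Fischer.Fi24RepOrb.H) := inferInstance
    rw [← hR] at hd hd' ⊢
    obtain ⟨x, rfl⟩ := hd
    obtain ⟨y, rfl⟩ := hd'
    have h1 := ncard_cn_ncom R hn
    rw [Cfsg.Agent.H711.FiEven.cb_card R hR] at h1
    obtain ⟨z, hz⟩ := Set.nonempty_of_ncard_ne_zero (s := cn R x y) (by rw [h1]; norm_num)
    exact ⟨R.t z, ⟨z, rfl⟩, R.com_symm hz.1.2, R.com_symm hz.2.2⟩

theorem closure_L : closure (L : Set Fi24) = ⊤ := by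
  obtain ⟨R, -, -, hR⟩ := FiTwentyFour.facts.exists_rank3
  rw [← hR]
  exact R.gen

/-- **The row `Fi24'`.** -/
theorem row_fi24 {L : Type u} [Group L] (h : Spor.IsoFi24' L) : Row 2 L := by
  obtain ⟨e⟩ := h
  rw [row_iff]
  intro a ha
  let α : MulAut (commutator Fi24) := MulAut.congr e a
  obtain ⟨g, hg⟩ := Cfsg.Agent.H819.CubeFi24.conj_surjective α
  have hα : ∀ u : commutator Fi24, g * (u : Fi24) * g⁻¹ = ((e (a (e.symm u)) : commutator Fi24) : Fi24) := by
    intro u
    have h1 := congrArg (fun f : MulAut (commutator Fi24) => ((f u : commutator Fi24) : Fi24)) hg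
    simp only [MulAut.conjNormal_apply] at h1
    exact h1
  have key : ∀ d ∈ (FiTwentyFour.L : Set Fi24), MulAut.conj g d = d := by
    intro d hd
    refine sys_fi24.fix_all (MulAut.conj g) (fun d hd => FiTwentyFour.conj hd g) ?_ hd
    intro d hd f hf n hn hp
    have h1 : (MulAut.conj g (d * f))⁻¹ * (d * f) =
        ((e ((a (e.symm ⟨d * f, FiTwentyFour.even hd hf⟩))⁻¹ * e.symm ⟨d * f, FiTwentyFour.even hd hf⟩) :
          commutator Fi24) : Fi24) := by
      rw [map_mul e, map_inv e, MulEquiv.apply_symm_apply, MulAut.conj_apply]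
      show _ = ((e (a (e.symm ⟨d * f, FiTwentyFour.even hd hf⟩)) : commutator Fi24) : Fi24)⁻¹ * (d * f)
      rw [← hα ⟨d * f, FiTwentyFour.even hd hf⟩]
    rw [h1] at hp ⊢
    rcases ha (e.symm ⟨d * f, FiTwentyFour.even hd hf⟩) with h2 | h2
    · rw [h2, map_one]
      rfl
    · exfalso
      have h3 : orderOf ((a (e.symm ⟨d * f, FiTwentyFour.even hd hf⟩))⁻¹ * e.symm ⟨d * f, FiTwentyFour.even hd hf⟩) ∣ n := by
        rw [← MulEquiv.orderOf_eq e, ← Subgroup.orderOf_coe]
        exact orderOf_dvd_of_pow_eq_one hp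
      exact (Nat.not_even_iff_odd.2 hn) (even_iff_two_dvd.2 (h2.trans h3))
  have htop : (⊤ : Subgroup Fi24) ≤ centralizer {g} := by
    rw [← closure_L, closure_le]
    intro d hd
    have h1 := key d hd
    rw [MulAut.conj_apply, mul_inv_eq_iff_eq_mul] at h1
    exact mem_centralizer_singleton_iff.2 h1.symm
  ext s
  have h1 := hα (e s)
  have h2 : ((e s : commutator Fi24) : Fi24) ∈ centralizer {g} := htop (mem_top _)
  rw [MulEquiv.symm_apply_apply, ← mem_centralizer_singleton_iff.1 h2, mul_inv_cancel_right] at h1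
  have h3 : e s = e (a s) := Subtype.ext h1
  exact (e.injective h3).symm

end Cfsg.Agent.H689.Fisch
end
end
end
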